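import Cfsg.Agent.Lib.PGroup.ExponentTwo.Global

/-!
# The global consequences

A member of the span of the socles acting trivially on every pairing is trivial; hence the local facts
hold in the group.
-/

set_option autoImplicit false
set_option linter.style.haveILetI false
set_option linter.unusedSectionVars false

open Subgroup
open scoped commutatorElement

namespace CfsgLib.PGroup.ExponentTwo

open CfsgLib.PGroup
open CfsgLib.PGroup.GrossTwo

universe u v w

variable {H : Type u} [Group H] [Finite H] [Group.IsSolvable H] {k : Type v} [Field k] [IsAlgClosed k]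
  [CharP k 2] {W : Type w} [AddCommGroup W] [Module k W] [FiniteDimensional k W]
  {ρ : H →* Module.End k W} {T L U : Subgroup H} {n : ℕ}

/-- A member trivial on all pairings is trivial. -/
theorem eq_one_of_local (hinj : Function.Injective ρ) (hbot : Cfsg.pCore 2 H = ⊥)
    (hexp : ∀ y : H, IsPGroup 2 (zpowers y) →
      y ^ 2 ^ (n + 1) = 1 ∧ (ρ y - 1) ^ (2 ^ (n + 1) - 1) = 0)
    (hS : Setting T L U n) {g : H} (hg : g ∈ closure (socSet T L n))
    (h : ∀ (V : Type u) [CommGroup V] [Finite V] (r : ℕ) (β : V →* V →* kˣ) (S : Subgroup H)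
      (act : H → MulAut V), Loc n S r β act → act g = 1) : g = 1 := by
  classical
  obtain ⟨i, hi⟩ := hS.two ⟨g, (span_le_inf hg).1⟩
  replace hi : g ^ 2 ^ i = 1 := congrArg Subtype.val hi
  refine DerivedTwo.eq_one_of_commute_pCores hbot hi fun r hr hr2 x hx => ?_
  set Q := Cfsg.pCore r H
  haveI : Q.Normal := CfsgLib.Coprime.pCore_normal' r
  have hQp : IsPGroup r Q := CfsgLib.Coprime.pCore_isPGroup r
  obtain ⟨A, hAQ, hAn, -, hApow, hAA, -, -, hfix⟩ := CfsgLib.CFun.exists_critical_in hQp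
  haveI := hAn
  set Z := CfsgLib.CFun.cen A with hZ
  haveI : Z.Normal := by rw [hZ]; unfold CfsgLib.CFun.cen; infer_instance
  have hZA : Z ≤ A := inf_le_left
  have hAp : IsPGroup r A := hQp.to_le hAQ
  have hP : ClassTwoPair A Z :=
    { le := hZA
      cen := fun x hx z hz => (CfsgLib.CFun.commute_of_mem_cen hz hx).symm
      comm := fun x hx y hy =>
        CfsgLib.CFun.commutator_le_cen_of_classTwo hAA (commutator_mem_commutator hx hy) }
  have hZc : ∀ a ∈ Z, ∀ b ∈ Z, a * b = b * a := fun a ha b hb => (hP.cen a (hZA ha) b hb).eq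
  have hgZ : g ∈ centralizer (Z : Set H) := by
    refine (closure_le _).2 (fun s hs => ?_) hg
    obtain ⟨-, -, a, ha, rfl⟩ := hs
    exact socle_centralizes_abelian ρ hinj hr2 (hexp a ha).1 (hexp a ha).2 (hAp.to_le hZA)
      (by rw [normalizer_eq_top]; exact mem_top _) hZc
  haveI := Fintype.ofFinite Z
  have hmod : ∀ c ∈ A, ⁅g, c⁆ ∈ Z := by
    intro c hc
    have hu : ⁅g, c⁆ ∈ A := by
      rw [commutatorElement_def]
      exact mul_mem ((inferInstance : A.Normal).conj_mem c hc _) (inv_mem hc)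
    refine Subgroup.mem_inf.2 ⟨hu, mem_centralizer_iff.2 fun w hw => ?_⟩
    have hm : ⁅⁅g, c⁆, w⁆ ∈ Z := hP.comm _ hu w hw
    have h0 : ρ ⁅⁅g, c⁆, w⁆ - 1 = 0 := by
      refine eq_zero_of_forall_eigen ρ (fun a ha b hb => by rw [hZc a ha b hb])
        (card_ne_zero_of_odd (k := k) hr2 (hAp.to_le hZA)) _ (fun z hz v => ?_) fun μ f hf => ?_
      · rw [LinearMap.sub_apply, LinearMap.sub_apply, map_sub, Module.End.one_apply, Module.End.one_apply,
          ← rep_mul_apply, ← rep_mul_apply, hZc _ hm z hz]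
      by_cases hf0 : f = 0
      · rw [hf0, map_zero]
      obtain ⟨V, _, _, β, act, hloc, hker⟩ := exists_loc ρ hinj hr2 hexp hAp hP hApow hf hf0
      have h1 := hker g (hloc.span_le hS hg) (h V r β _ act hloc) ⟨c, hc⟩
      have h2 : hP.pairing μ ⟨⁅g, c⁆, hu⟩ = 1 := by
        have e : (⟨⁅g, c⁆, hu⟩ : A) = ⟨g * c * g⁻¹,
            (inferInstance : A.Normal).conj_mem _ hc _⟩ * (⟨c, hc⟩ : A)⁻¹ :=
          Subtype.ext (commutatorElement_def _ _)
        rw [e, map_mul, map_inv, h1]
        exact MonoidHom.ext fun _ => mul_inv_cancel _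
      have h3 := DFunLike.congr_fun h2 ⟨w, hw⟩
      rw [ClassTwoPair.pairing_apply, MonoidHom.one_apply] at h3
      rw [LinearMap.sub_apply, show ρ ⁅⁅g, c⁆, w⁆ f = _ from hf ⟨_, hm⟩, h3, Units.val_one,
        one_smul, Module.End.one_apply, sub_self]
    have h4 := hinj (((sub_eq_zero (a := ρ ⁅⁅g, c⁆, w⁆) (b := 1)).1 h0).trans (map_one ρ).symm)
    exact (commutatorElement_eq_one_iff_mul_comm.1 h4).symm
  have hfixA : ∀ c ∈ A, g * c * g⁻¹ = c := by
    intro c hc
    set z := ⁅g, c⁆ with hz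
    have e0 : g * c * g⁻¹ = z * c := by rw [hz, commutatorElement_def, inv_mul_cancel_right]
    have hgz : g * z * g⁻¹ = z :=
      mul_inv_eq_iff_eq_mul.2 (mem_centralizer_iff.1 hgZ z (hmod c hc)).symm
    have hpow : ∀ j : ℕ, g ^ j * c * (g ^ j)⁻¹ = z ^ j * c := by
      intro j
      induction j with
      | zero => simp
      | succ j ih =>
        rw [pow_succ' g, show g * g ^ j * c * (g * g ^ j)⁻¹ = g * (g ^ j * c * (g ^ j)⁻¹) * g⁻¹ by group, ih,
          ← conj_mul, e0, ← conj_pow, hgz, ← mul_assoc, ← pow_succ]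
    have e2 := hpow (2 ^ i)
    rw [hi, one_mul, inv_one, mul_one, right_eq_mul] at e2
    obtain ⟨e, he⟩ := hQp ⟨z, hAQ (hmod c hc).1⟩
    have hz1 : z = 1 := orderOf_eq_one_iff.1 (Nat.eq_one_of_dvd_coprimes
      (((Nat.coprime_primes Nat.prime_two hr.out).2 hr2.symm).pow i e)
      (orderOf_dvd_of_pow_eq_one e2) (orderOf_dvd_of_pow_eq_one (congrArg Subtype.val he)))
    rw [e0, hz1, one_mul]
  let φ : MulAut Q := Q.normalizerMonoidHom ⟨g, by rw [normalizer_eq_top]; exact mem_top _⟩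
  have hφ : φ = 1 := by
    refine hfix φ ?_ fun a ha => Subtype.ext (hfixA _ ha)
    refine Nat.Coprime.coprime_dvd_left (orderOf_dvd_of_pow_eq_one ?_)
      (((Nat.coprime_primes Nat.prime_two hr.out).2 hr2.symm).pow_left i)
    rw [← map_pow]
    convert map_one Q.normalizerMonoidHom
    exact Subtype.ext hi
  have e : ((φ (⟨x, hx⟩ : Q) : Q) : H) = x := by rw [hφ]; rfl
  exact mul_inv_eq_iff_eq_mul.1 e

variable (hinj : Function.Injective ρ) (hbot : Cfsg.pCore 2 H = ⊥)
  (hexp : ∀ y : H, IsPGroup 2 (zpowers y) → y ^ 2 ^ (n + 1) = 1 ∧ (ρ y - 1) ^ (2 ^ (n + 1) - 1) = 0)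
  (hS : Setting T L U n)
include hinj hbot hexp hS

/-- To lie among the central involutions it is enough to do so on every pairing. -/
theorem mem_omega_of_local {c : H} (hc : c ∈ closure (socSet T L n))
    (h : ∀ (V : Type u) [CommGroup V] [Finite V] (r : ℕ) (β : V →* V →* kˣ) (S : Subgroup H)
      (act : H → MulAut V), Loc n S r β act → act c ∈ omega (closure (act '' socSet T L n))) :
    c ∈ omega (closure (socSet T L n)) := by
  refine ⟨hc, eq_one_of_local hinj hbot hexp hS (mul_mem hc hc) fun V _ _ r β S act hloc => ?_,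
    fun e he => commutatorElement_eq_one_iff_commute.1 (eq_one_of_local hinj hbot hexp hS
      (mul_mem (mul_mem (mul_mem he hc) (inv_mem he)) (inv_mem hc)) fun V _ _ r β S act hloc => ?_)⟩
  · rw [hloc.map_mul _ (hloc.span_le hS hc) _ (hloc.span_le hS hc)]
    exact (h V r β S act hloc).2.1
  · rw [hloc.act_comm (hloc.span_le hS he) (hloc.span_le hS hc)]
    exact commutatorElement_eq_one_iff_commute.2 ((h V r β S act hloc).2.2 _ (hloc.act_mem hS he))

theorem omega_span {a : H} (ha : a ∈ closure (socSet T L n)) :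
    (∀ b ∈ closure (socSet T L n), ⁅a, b⁆ ∈ omega (closure (socSet T L n))) ∧
      a * a ∈ omega (closure (socSet T L n)) := by
  refine ⟨fun b hb => mem_omega_of_local hinj hbot hexp hS ?_ fun V _ _ r β S act hloc =>
    (hloc.omega_act hS ha).1 b hb, mem_omega_of_local hinj hbot hexp hS (mul_mem ha ha)
      fun V _ _ r β S act hloc => (hloc.omega_act hS ha).2⟩
  rw [commutatorElement_def]
  exact mul_mem (mul_mem (mul_mem ha hb) (inv_mem ha)) (inv_mem hb)

theorem socle_quot_omega {g x : H} (hg : g ∈ T) (hx : x ∈ closure (socSet T L n)) :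
    (x * g) ^ 2 ^ n * (g ^ 2 ^ n)⁻¹ ∈ omega (closure (socSet T L n)) := by
  have hgT := hS.two_elem hg
  have hyT : x * g ∈ T := mul_mem (span_le_inf hx).1 hg
  have hinv : (g ^ 2 ^ n)⁻¹ = g ^ 2 ^ n := inv_eq_of_mul_eq_one_left (by
    rw [← pow_add, ← two_mul, ← pow_succ', (hexp g hgT).1])
  rw [hinv]
  have hsy := subset_closure (k := socSet T L n) (hS.pow_mem_socSet hyT)
  have hsg := subset_closure (k := socSet T L n) (hS.pow_mem_socSet hg)
  refine mem_omega_of_local hinj hbot hexp hS (mul_mem hsy hsg) fun V _ _ r β S act hloc => ?_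
  have h1 := hloc.act_mem hS hsy
  have h2 := hloc.act_mem hS hsg
  rw [hloc.map_mul _ (hloc.span_le hS hsy) _ (hloc.span_le hS hsg)]
  refine ⟨mul_mem h1 h2, ?_, fun e he => hloc.commute_act hS hg hx he⟩
  have hc := hloc.comm_socles hS hg hyT
  rw [mul_assoc, ← mul_assoc (act (g ^ 2 ^ n)), hc.eq, mul_assoc (act ((x * g) ^ 2 ^ n)),
    (hloc.sockSet hS).sq ⟨_, hS.pow_mem_socSet hg, rfl⟩, mul_one,
    (hloc.sockSet hS).sq ⟨_, hS.pow_mem_socSet hyT, rfl⟩]

theorem socle_eq_of_omega {g x : H} (hg : g ∈ T) (hx : x ∈ omega (closure (socSet T L n))) :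
    (x * g) ^ 2 ^ n = g ^ 2 ^ n := by
  have hyT : x * g ∈ T := mul_mem (span_le_inf hx.1).1 hg
  have hsy := subset_closure (k := socSet T L n) (hS.pow_mem_socSet hyT)
  have hsg := subset_closure (k := socSet T L n) (hS.pow_mem_socSet hg)
  refine mul_inv_eq_one.1 (eq_one_of_local hinj hbot hexp hS (mul_mem hsy (inv_mem hsg))
    fun V _ _ r β S act hloc => ?_)
  rw [hloc.map_mul _ (hloc.span_le hS hsy) _ (inv_mem (hloc.span_le hS hsg)),
    hloc.act_inv (hloc.span_le hS hsg), mul_inv_eq_one]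
  by_cases h1 : act (g ^ 2 ^ n) = 1
  · by_contra h2
    rw [h1] at h2
    have h3 := hloc.eq_of_omega hS hyT (inv_mem hx) h2
    rw [inv_mul_cancel_left] at h3
    exact h2 (h3.symm.trans h1)
  · exact hloc.eq_of_omega hS hg hx h1

end CfsgLib.PGroup.ExponentTwo
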