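import Cfsg.Agent.Lib.PGroup.ExponentTwo.Local
import Cfsg.Agent.Lib.PGroup.DerivedTwo.Detect

/-!
# The socles inside the second layer

In a soluble linear group in characteristic two without normal `2`-subgroup, whose `2`-elements have
deficient degree, the socles lying in a Sylow `2`-subgroup of the second layer generate a group whose
commutators and squares are central involutions, and multiplying by a member changes a socle in a
controlled way.
-/

set_option autoImplicit false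
set_option linter.style.haveILetI false
set_option linter.unusedSectionVars false

open Subgroup
open scoped commutatorElement

namespace CfsgLib.PGroup.ExponentTwo

open CfsgLib.PGroup
open CfsgLib.PGroup.GrossTwo

universe u v w

section Group

variable {H : Type u} [Group H]

/-- The socles lying in `T ⊓ L`. -/
def socSet (T L : Subgroup H) (n : ℕ) : Set H :=
  {s | s ∈ T ∧ s ∈ L ∧ ∃ a : H, IsPGroup 2 (zpowers a) ∧ a ^ 2 ^ n = s}

/-- The second layer, its odd part and a Sylow subgroup. -/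
structure Setting (T L U : Subgroup H) (n : ℕ) : Prop where
  two : IsPGroup 2 T
  normL : L.Normal
  normU : U.Normal
  le : U ≤ L
  socle : ∀ y : H, IsPGroup 2 (zpowers y) → y ^ 2 ^ n ∈ L
  disj : ∀ x ∈ T, x ∈ U → x = 1
  lift : ∀ a : H, IsPGroup 2 (zpowers a) → ∃ c ∈ U, ∃ P : Subgroup H,
    IsPGroup 2 P ∧ T ⊓ L ≤ P ∧ P ⊓ L ≤ T ∧ c⁻¹ * a * c ∈ P

theorem inv_pow_mul_mem (K : Subgroup H) {x g : H} (hx : x ∈ K) (hg : ∀ e ∈ K, g⁻¹ * e * g ∈ K) :
    ∀ i : ℕ, (g ^ i)⁻¹ * (x * g) ^ i ∈ K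
  | 0 => by simp
  | i + 1 => by
    rw [show (g ^ (i + 1))⁻¹ * (x * g) ^ (i + 1) = g⁻¹ * ((g ^ i)⁻¹ * (x * g) ^ i * x) * g by
      rw [pow_succ g, pow_succ (x * g)]; group]
    exact hg _ (mul_mem (inv_pow_mul_mem K hx hg i) hx)

variable {T L U : Subgroup H} {n : ℕ}

theorem span_le_inf : closure (socSet T L n) ≤ T ⊓ L :=
  (closure_le _).2 fun _ hs => ⟨hs.1, hs.2.1⟩

variable (hS : Setting T L U n)
include hS

theorem Setting.two_elem {x : H} (hx : x ∈ T) : IsPGroup 2 (zpowers x) := hS.two.to_le (zpowers_le.2 hx)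

theorem Setting.pow_mem_socSet {y : H} (hy : y ∈ T) : y ^ 2 ^ n ∈ socSet T L n :=
  ⟨pow_mem hy _, hS.socle y (hS.two_elem hy), y, hS.two_elem hy, rfl⟩

theorem Setting.conj_socSet {g s : H} (hg : g ∈ T) (hs : s ∈ socSet T L n) :
    g * s * g⁻¹ ∈ socSet T L n := by
  obtain ⟨h1, h2, a, ha, rfl⟩ := hs
  refine ⟨mul_mem (mul_mem hg h1) (inv_mem hg), hS.normL.conj_mem _ h2 g, g * a * g⁻¹, ?_, conj_pow⟩
  have := ha.map (MulAut.conj g).toMonoidHom
  rwa [MonoidHom.map_zpowers] at this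

theorem Setting.conj_span {g e : H} (hg : g ∈ T) (he : e ∈ closure (socSet T L n)) :
    g * e * g⁻¹ ∈ closure (socSet T L n) := by
  induction he using closure_induction with
  | mem s hs => exact subset_closure (hS.conj_socSet hg hs)
  | one => rw [mul_one, mul_inv_cancel]; exact one_mem _
  | mul x y _ _ hx hy => rw [← conj_mul]; exact mul_mem hx hy
  | inv x _ hx => rw [← conj_inv]; exact inv_mem hx

theorem Setting.conj_omega {g e : H} (hg : g ∈ T) (he : e ∈ omega (closure (socSet T L n))) :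
    g * e * g⁻¹ ∈ omega (closure (socSet T L n)) := by
  refine ⟨hS.conj_span hg he.1, by rw [conj_mul, he.2.1, mul_one, mul_inv_cancel], fun c hc => ?_⟩
  have h1 : g⁻¹ * c * g⁻¹⁻¹ ∈ closure (socSet T L n) := hS.conj_span (inv_mem hg) hc
  have h2 := (he.2.2 _ h1).conj g
  rwa [show g * (g⁻¹ * c * g⁻¹⁻¹) * g⁻¹ = c by group] at h2

/-- A socle of `T ⊓ L` is a socle in a `2`-group containing `T ⊓ L`. -/
theorem Setting.exists_group {s : H} (hs : s ∈ socSet T L n) :
    ∃ P : Subgroup H, IsPGroup 2 P ∧ T ⊓ L ≤ P ∧ ∃ b ∈ P, b ^ 2 ^ n = s := by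
  obtain ⟨h1, h2, a, ha, rfl⟩ := hs
  obtain ⟨c, hc, P, hP, hle, hle', hb⟩ := hS.lift a ha
  refine ⟨P, hP, hle, c⁻¹ * a * c, hb, ?_⟩
  have e : (c⁻¹ * a * c) ^ 2 ^ n = c⁻¹ * a ^ 2 ^ n * c := by
    have := conj_pow (i := 2 ^ n) (a := c⁻¹) (b := a)
    rwa [inv_inv] at this
  have hL : (c⁻¹ * a * c) ^ 2 ^ n ∈ L := by
    rw [e]
    have := hS.normL.conj_mem _ h2 c⁻¹
    rwa [inv_inv] at this
  have h3 := hle' ⟨pow_mem hb _, hL⟩
  rw [e] at h3 ⊢
  refine (mul_inv_eq_one.1 (hS.disj _ (mul_mem h3 (inv_mem h1)) ?_))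
  rw [show c⁻¹ * a ^ 2 ^ n * c * (a ^ 2 ^ n)⁻¹ = c⁻¹ * (a ^ 2 ^ n * c * (a ^ 2 ^ n)⁻¹) by group]
  exact mul_mem (inv_mem hc) (hS.normU.conj_mem c hc _)

end Group

variable {H : Type u} [Group H] {T L U : Subgroup H} {n : ℕ} {V : Type w} [CommGroup V] [Finite V]
  {A : Type v} [CommGroup A] {S : Subgroup H} {r : ℕ} {β : V →* V →* A} {act : H → MulAut V}

namespace Loc

variable (hloc : Loc n S r β act)
include hloc

theorem act_one : act 1 = 1 := by
  have h := hloc.map_mul 1 (one_mem _) 1 (one_mem _)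
  rw [mul_one] at h
  exact left_eq_mul.1 h

theorem act_inv {a : H} (ha : a ∈ S) : act a⁻¹ = (act a)⁻¹ := by
  have h := hloc.map_mul a⁻¹ (inv_mem ha) a ha
  rw [inv_mul_cancel, hloc.act_one] at h
  exact eq_inv_of_mul_eq_one_left h.symm

theorem act_pow {a : H} (ha : a ∈ S) (i : ℕ) : act (a ^ i) = act a ^ i := by
  induction i with
  | zero => rw [pow_zero, pow_zero, hloc.act_one]
  | succ i ih => rw [pow_succ, pow_succ, hloc.map_mul _ (pow_mem ha i) a ha, ih]

theorem act_comm {a b : H} (ha : a ∈ S) (hb : b ∈ S) : act ⁅a, b⁆ = ⁅act a, act b⁆ := by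
  rw [commutatorElement_def, commutatorElement_def, hloc.map_mul _ (mul_mem (mul_mem ha hb) (inv_mem ha)) _ (inv_mem hb),
    hloc.map_mul _ (mul_mem ha hb) _ (inv_mem ha), hloc.map_mul _ ha _ hb, hloc.act_inv ha, hloc.act_inv hb]

/-- The action as a homomorphism. -/
def hom : S →* MulAut V :=
  MonoidHom.mk' (fun g => act g) fun a b => hloc.map_mul a a.2 b b.2

theorem hom_apply (g : S) : hloc.hom g = act g := rfl

theorem sock_of {P : Subgroup H} (hP : IsPGroup 2 P) {b : H} (hb : b ∈ P) (hne : act (b ^ 2 ^ n) ≠ 1) :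
    Sock β r ((P.subgroupOf S).map hloc.hom) (act (b ^ 2 ^ n)) := by
  have hb2 : IsPGroup 2 (zpowers b) := hP.to_le (zpowers_le.2 hb)
  obtain ⟨j, m, hn, hm, hbS, hfix, hcard⟩ := (hloc.dich b hb2).resolve_left hne
  refine ⟨(hP.comap_of_injective S.subtype S.subtype_injective).map _, ?_, hne, ?_, hcard,
    act (b ^ 2 ^ j), ⟨⟨_, hbS⟩, mem_subgroupOf.2 (pow_mem hb _), rfl⟩, m, hm, ?_, hfix⟩
  · rintro _ ⟨g, -, rfl⟩
    exact hloc.pres g g.2
  · rw [← hloc.map_mul _ (hloc.mem b hb2) _ (hloc.mem b hb2), ← pow_add, ← two_mul, ← pow_succ',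
      hloc.sq b hb2, hloc.act_one]
  · rw [← hloc.act_pow hbS, ← pow_mul, ← pow_add, ← hn]

variable (hS : Setting T L U n)
include hS

theorem span_le : closure (socSet T L n) ≤ S :=
  (closure_le _).2 fun s hs => by
    obtain ⟨-, -, a, ha, rfl⟩ := hs
    exact hloc.mem a ha

theorem act_mem {m : H} (hm : m ∈ closure (socSet T L n)) :
    act m ∈ closure (act '' socSet T L n) := by
  have hmS : ∀ {x}, x ∈ closure (socSet T L n) → x ∈ S := fun hx => hloc.span_le hS hx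
  induction hm using closure_induction with
  | mem s hs => exact subset_closure ⟨s, hs, rfl⟩
  | one => rw [hloc.act_one]; exact one_mem _
  | mul x y hx hy hx' hy' => rw [hloc.map_mul _ (hmS hx) _ (hmS hy)]; exact mul_mem hx' hy'
  | inv x hx hx' => rw [hloc.act_inv (hmS hx)]; exact inv_mem hx'

theorem sockSet : SockSet β r (act '' socSet T L n) := by
  rintro _ ⟨s, hs, rfl⟩
  refine or_iff_not_imp_left.2 fun hne => ?_
  obtain ⟨P, hP, hle, b, hb, rfl⟩ := hS.exists_group hs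
  refine ⟨_, (closure_le _).2 ?_, hloc.sock_of hP hb hne⟩
  rintro _ ⟨t, ht, rfl⟩
  exact ⟨⟨t, hloc.span_le hS (subset_closure ht)⟩, mem_subgroupOf.2 (hle ⟨ht.1, ht.2.1⟩), rfl⟩

theorem omega_act {a : H} (ha : a ∈ closure (socSet T L n)) :
    (∀ b ∈ closure (socSet T L n), act ⁅a, b⁆ ∈ omega (closure (act '' socSet T L n))) ∧
      act (a * a) ∈ omega (closure (act '' socSet T L n)) := by
  have h := (hloc.sockSet hS).omega_mem hloc.paired (hloc.act_mem hS ha)
  have haS := hloc.span_le hS ha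
  refine ⟨fun b hb => ?_, by rw [hloc.map_mul _ haS _ haS]; exact h.2⟩
  rw [hloc.act_comm haS (hloc.span_le hS hb)]
  exact h.1 _ (hloc.act_mem hS hb)

/-- The socles of elements of `T` commute. -/
theorem comm_socles {g y : H} (hg : g ∈ T) (hy : y ∈ T) :
    Commute (act (g ^ 2 ^ n)) (act (y ^ 2 ^ n)) := by
  by_cases h1 : act (g ^ 2 ^ n) = 1
  · rw [h1]; exact Commute.one_left _
  by_cases h2 : act (y ^ 2 ^ n) = 1
  · rw [h2]; exact Commute.one_right _
  exact comm_socks hloc.paired (hloc.sock_of hS.two hg h1) (hloc.sock_of hS.two hy h2)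

/-- Multiplying by a member changes a socle by a central element. -/
theorem commute_act {g x : H} (hg : g ∈ T) (hx : x ∈ closure (socSet T L n)) {e : MulAut V}
    (he : e ∈ closure (act '' socSet T L n)) :
    Commute e (act ((x * g) ^ 2 ^ n) * act (g ^ 2 ^ n)) := by
  have hgT := hS.two_elem hg
  have hyT : x * g ∈ T := mul_mem (span_le_inf hx).1 hg
  have hy2 := hS.two_elem hyT
  set E := closure (socSet T L n)
  have hrel : ∀ i : ℕ, (g ^ i)⁻¹ * (x * g) ^ i ∈ E := inv_pow_mul_mem E hx fun c hc => by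
    simpa using hS.conj_span (inv_mem hg) hc
  have hiff : ∀ i : ℕ, g ^ i ∈ S ↔ (x * g) ^ i ∈ S := fun i => by
    have hM := hloc.span_le hS (hrel i)
    refine ⟨fun h => ?_, fun h => ?_⟩
    · have := mul_mem h hM
      rwa [mul_inv_cancel_left] at this
    · have := mul_mem h (inv_mem hM)
      rwa [mul_inv_rev, inv_inv, mul_inv_cancel_left] at this
  have lift : ∀ {a : H} {j J : ℕ}, a ^ 2 ^ j ∈ S → j ≤ J →
      (∀ v ∈ fixS (act (a ^ 2 ^ n)), act (a ^ 2 ^ j) v = v) →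
      a ^ 2 ^ J ∈ S ∧ ∀ v ∈ fixS (act (a ^ 2 ^ n)), act (a ^ 2 ^ J) v = v := by
    intro a j J haS hjJ hfix
    rw [show 2 ^ J = 2 ^ j * 2 ^ (J - j) by rw [← pow_add, Nat.add_sub_cancel' hjJ], pow_mul]
    refine ⟨pow_mem haS _, fun v hv => ?_⟩
    rw [hloc.act_pow haS]
    generalize 2 ^ (J - j) = i
    induction i with
    | zero => rfl
    | succ i ih => rw [pow_succ, MulAut.mul_apply, hfix v hv, ih]
  by_cases hboth : act (g ^ 2 ^ n) = 1 ∧ act ((x * g) ^ 2 ^ n) = 1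
  · rw [hboth.1, hboth.2, mul_one]
    exact Commute.one_right e
  obtain ⟨J, m, hn, hm, hgS, hfix, hfix'⟩ : ∃ J m, n = J + m ∧ 1 ≤ m ∧ g ^ 2 ^ J ∈ S ∧
      (act (g ^ 2 ^ n) ≠ 1 → ∀ v ∈ fixS (act (g ^ 2 ^ n)), act (g ^ 2 ^ J) v = v) ∧
      (act ((x * g) ^ 2 ^ n) ≠ 1 →
        ∀ v ∈ fixS (act ((x * g) ^ 2 ^ n)), act ((x * g) ^ 2 ^ J) v = v) := by
    rcases hloc.dich g hgT with h1 | ⟨j, m, hn, hm, hjS, hjf, -⟩ <;>
      rcases hloc.dich (x * g) hy2 with h2 | ⟨j', m', hn', hm', hjS', hjf', -⟩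
    · exact absurd ⟨h1, h2⟩ hboth
    · exact ⟨j', m', hn', hm', (hiff _).2 hjS', fun h => absurd h1 h, fun _ => hjf'⟩
    · exact ⟨j, m, hn, hm, hjS, fun _ => hjf, fun h => absurd h2 h⟩
    · rcases le_total j j' with hle | hle
      · obtain ⟨h3, h4⟩ := lift hjS hle hjf
        exact ⟨j', m', hn', hm', h3, fun _ => h4, fun _ => hjf'⟩
      · obtain ⟨-, h4⟩ := lift hjS' hle hjf'
        exact ⟨j, m, hn, hm, hjS, fun _ => hjf, fun _ => h4⟩
  have hMS := hloc.span_le hS (hrel (2 ^ J))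
  have hq : ∀ a : H, a ^ 2 ^ n = (a ^ 2 ^ J) ^ 2 ^ m := fun a => by rw [← pow_mul, ← pow_add, ← hn]
  set M := (g ^ 2 ^ J)⁻¹ * (x * g) ^ 2 ^ J
  have e1 : act (g ^ 2 ^ J) ^ 2 ^ m = act (g ^ 2 ^ n) := by rw [hq, hloc.act_pow hgS]
  have e2 : act (g ^ 2 ^ J) * act M = act ((x * g) ^ 2 ^ J) := by
    rw [← hloc.map_mul _ hgS _ hMS, mul_inv_cancel_left]
  have e3 : (act (g ^ 2 ^ J) * act M) ^ 2 ^ m = act ((x * g) ^ 2 ^ n) := by
    rw [e2, hq, hloc.act_pow ((hiff _).1 hgS)]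
  have h := (hloc.sockSet hS).step hloc.paired (h := act (g ^ 2 ^ J)) (M := act M) hm
    (by rw [e1]; exact ⟨_, hS.pow_mem_socSet hg, rfl⟩)
    (by rw [e3]; exact ⟨_, hS.pow_mem_socSet hyT, rfl⟩)
    (by rw [e1]; exact hfix) (by rw [e3, e2]; exact hfix') ?_ (hloc.act_mem hS (hrel _)) e he
  · rwa [e1, e3] at h
  intro c hc
  induction hc using closure_induction with
  | mem c hc =>
    obtain ⟨s, hs, rfl⟩ := hc
    have hsS := hloc.span_le hS (subset_closure hs)
    rw [← hloc.act_inv hgS, ← hloc.map_mul _ hgS _ hsS, ← hloc.map_mul _ (mul_mem hgS hsS) _ (inv_mem hgS)]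
    exact subset_closure ⟨_, hS.conj_socSet (pow_mem hg _) hs, rfl⟩
  | one => rw [mul_one, mul_inv_cancel]; exact one_mem _
  | mul a b _ _ ha hb => rw [← conj_mul]; exact mul_mem ha hb
  | inv a _ ha => rw [← conj_inv]; exact inv_mem ha

/-- Multiplying by a central involution fixes a nontrivial socle. -/
theorem eq_of_omega {g x : H} (hg : g ∈ T) (hx : x ∈ omega (closure (socSet T L n)))
    (hne : act (g ^ 2 ^ n) ≠ 1) : act ((x * g) ^ 2 ^ n) = act (g ^ 2 ^ n) := by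
  obtain ⟨j, m, hn, hm, hjS, hjf, -⟩ := (hloc.dich g (hS.two_elem hg)).resolve_left hne
  have hrel := inv_pow_mul_mem (omega (closure (socSet T L n))) hx (g := g)
    (fun c hc => by simpa using hS.conj_omega (inv_mem hg) hc) (2 ^ j)
  set M := (g ^ 2 ^ j)⁻¹ * (x * g) ^ 2 ^ j
  have hMS := hloc.span_le hS hrel.1
  have hq : ∀ a : H, a ^ 2 ^ n = (a ^ 2 ^ j) ^ 2 ^ m := fun a => by rw [← pow_mul, ← pow_add, ← hn]
  have hM : act M ∈ omega (closure (act '' socSet T L n)) := by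
    refine ⟨hloc.act_mem hS hrel.1, by rw [← hloc.map_mul _ hMS _ hMS, hrel.2.1, hloc.act_one], fun e he => ?_⟩
    induction he using closure_induction with
    | mem e he =>
      obtain ⟨s, hs, rfl⟩ := he
      have hsS := hloc.span_le hS (subset_closure hs)
      show act s * act M = act M * act s
      rw [← hloc.map_mul _ hsS _ hMS, ← hloc.map_mul _ hMS _ hsS, (hrel.2.2 s (subset_closure hs)).eq]
    | one => exact Commute.one_left _
    | mul a b _ _ ha hb => exact ha.mul_left hb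
    | inv a _ ha => exact ha.inv_left
  have e1 : act (g ^ 2 ^ j) ^ 2 ^ m = act (g ^ 2 ^ n) := by rw [hq, hloc.act_pow hjS]
  have h := (hloc.sockSet hS).pow_mul_omega hloc.paired (h := act (g ^ 2 ^ j)) hm
    (by rw [e1]; exact ⟨_, hS.pow_mem_socSet hg, rfl⟩) (by rw [e1]; exact hne) (by rw [e1]; exact hjf) hM
  rw [e1, ← hloc.map_mul _ hjS _ hMS, mul_inv_cancel_left,
    ← hloc.act_pow (by simpa [M] using mul_mem hjS hMS), ← hq] at h
  exact h

end Loc

end CfsgLib.PGroup.ExponentTwo
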