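import Cfsg.Agent.Lib.PGroup.ExponentTwo.Span
import Cfsg.Agent.Lib.PGroup.GrossTwo.TwoLength

/-!
# The action on one pairing

In characteristic two, a class two pair and an eigencharacter of its centre give a paired group with an
action of the stabiliser; the socle of each `2`-element of deficient degree is trivial there or inverts at
most a plane and has a root that is trivial on its fixed elements.
-/

set_option autoImplicit false
set_option linter.style.haveILetI false
set_option linter.unusedSectionVars false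

open Subgroup
open scoped commutatorElement

namespace CfsgLib.PGroup.ExponentTwo

open CfsgLib.PGroup
open CfsgLib.PGroup.GrossTwo

universe u v w

/-- An action of `S` on a paired group with small socles. -/
structure Loc {H : Type u} [Group H] {V : Type w} [CommGroup V] {A : Type v} [CommGroup A] (n : ℕ)
    (S : Subgroup H) (r : ℕ) (β : V →* V →* A) (act : H → MulAut V) : Prop where
  paired : Paired r β
  map_mul : ∀ a ∈ S, ∀ b ∈ S, act (a * b) = act a * act b
  pres : ∀ g ∈ S, Pres β (act g)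
  mem : ∀ y : H, IsPGroup 2 (zpowers y) → y ^ 2 ^ n ∈ S
  sq : ∀ y : H, IsPGroup 2 (zpowers y) → y ^ 2 ^ (n + 1) = 1
  dich : ∀ y : H, IsPGroup 2 (zpowers y) → act (y ^ 2 ^ n) = 1 ∨
    ∃ j m, n = j + m ∧ 1 ≤ m ∧ y ^ 2 ^ j ∈ S ∧ (∀ v ∈ fixS (act (y ^ 2 ^ n)), act (y ^ 2 ^ j) v = v) ∧
      Nat.card (negS (act (y ^ 2 ^ n))) ≤ r * r

variable {H : Type u} [Group H] [Finite H] {k : Type v} [Field k] [IsAlgClosed k] [CharP k 2]
  {W : Type w} [AddCommGroup W] [Module k W] [FiniteDimensional k W] (ρ : H →* Module.End k W)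

/-- The local action of one eigencharacter. -/
theorem exists_loc (hinj : Function.Injective ρ) {r n : ℕ} [hr : Fact r.Prime] (hr2 : r ≠ 2)
    (hexp : ∀ y : H, IsPGroup 2 (zpowers y) →
      y ^ 2 ^ (n + 1) = 1 ∧ (ρ y - 1) ^ (2 ^ (n + 1) - 1) = 0)
    {A Z : Subgroup H} [A.Normal] [Z.Normal] (hA : IsPGroup r A) (hP : ClassTwoPair A Z)
    (hpow : ∀ x ∈ A, x ^ r ∈ Z) {χ : Z →* kˣ} {f : W} (hf : IsEigen ρ Z χ f) (hf0 : f ≠ 0) :
    ∃ (V : Type u) (_ : CommGroup V) (_ : Finite V) (β : V →* V →* kˣ) (act : H → MulAut V),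
      Loc n (charStab Z χ) r β act ∧
      ∀ g ∈ charStab Z χ, act g = 1 → ∀ c : A, hP.pairing χ ⟨g * c * g⁻¹,
        (inferInstance : A.Normal).conj_mem _ c.2 _⟩ = hP.pairing χ c := by
  classical
  let Γ : Subgroup H := charStab Z χ
  have hΓN : ∀ g : Γ, (g : H) ∈ normalizer (A : Set H) := fun g => by
    rw [normalizer_eq_top]; exact mem_top _
  let P := hP.pairing χ
  let K : Subgroup A := P.ker
  haveI : K.Normal := MonoidHom.normal_ker P
  letI : CommGroup (A ⧸ K) := { (inferInstance : Group (A ⧸ K)) with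
    mul_comm := fun u v => by
      obtain ⟨a, rfl⟩ := QuotientGroup.mk_surjective u
      obtain ⟨b, rfl⟩ := QuotientGroup.mk_surjective v
      rw [← QuotientGroup.mk_mul, ← QuotientGroup.mk_mul, QuotientGroup.eq, MonoidHom.mem_ker, map_mul,
        map_inv, map_mul, map_mul]
      exact MonoidHom.ext fun w => by
        show (P a w * P b w)⁻¹ * (P b w * P a w) = 1
        rw [mul_comm (P b w), inv_mul_cancel] }
  let conjR : Γ →* MulAut A :=
    (A.normalizerMonoidHom).comp (inclusion (fun g hg => hΓN ⟨g, hg⟩))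
  have hconj : ∀ (g : Γ) (a b : A), P (conjR g a) (conjR g b) = P a b := fun g =>
    hP.pairing_conj χ (hΓN g) g.2
  have hKg : ∀ g : Γ, K.map (conjR g).toMonoidHom = K := fun g => by
    refine eq_of_le_of_card_ge ?_ (card_map_of_injective (conjR g).injective).ge
    rintro _ ⟨a, ha, rfl⟩
    refine MonoidHom.mem_ker.2 (MonoidHom.ext fun b => ?_)
    obtain ⟨b, rfl⟩ := (conjR g).surjective b
    show P (conjR g a) (conjR g b) = 1
    rw [hconj, MonoidHom.mem_ker.1 ha, MonoidHom.one_apply]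
  let Φ : Γ →* MulAut (A ⧸ K) :=
    { toFun := fun g => QuotientGroup.congr K K (conjR g) (hKg g)
      map_one' := MulEquiv.ext fun v => by
        induction v using QuotientGroup.induction_on with
        | _ a =>
          show (((conjR 1) a : A) : A ⧸ K) = (a : A ⧸ K)
          rw [map_one]; rfl
      map_mul' := fun g g' => MulEquiv.ext fun v => by
        induction v using QuotientGroup.induction_on with
        | _ a =>
          show (((conjR (g * g')) a : A) : A ⧸ K) = ((conjR g (conjR g' a) : A) : A ⧸ K)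
          rw [map_mul]; rfl }
  have hΦ : ∀ (g : Γ) (a : A), Φ g (a : A ⧸ K) = ((conjR g a : A) : A ⧸ K) := fun g a => rfl
  have heq : ∀ (g : Γ) (a : A), Φ g (a : A ⧸ K) = (a : A ⧸ K) ↔ P (conjR g a) = P a := fun g a => by
    rw [hΦ, QuotientGroup.eq, MonoidHom.mem_ker, map_mul, map_inv]
    refine ⟨fun h => MonoidHom.ext fun w => ?_, fun h => ?_⟩
    · exact inv_mul_eq_one.1 (DFunLike.congr_fun h w)
    · rw [h]
      exact MonoidHom.ext fun _ => inv_mul_cancel _
  have hswap : ∀ a b : A, P a b * P b a = 1 := hP.pairing_swap χ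
  let β₁ : A ⧸ K →* A →* kˣ := QuotientGroup.lift K P le_rfl
  let β : A ⧸ K →* A ⧸ K →* kˣ :=
    MonoidHom.mk' (fun v => QuotientGroup.lift K (β₁ v) fun b hb => by
      obtain ⟨a, rfl⟩ := QuotientGroup.mk_surjective v
      have h1 := hswap a b
      rw [MonoidHom.mem_ker.1 hb, MonoidHom.one_apply, mul_one] at h1
      exact MonoidHom.mem_ker.2 h1) fun v v' => MonoidHom.ext fun x => by
        induction x using QuotientGroup.induction_on with
        | _ b =>
          show β₁ (v * v') b = β₁ v b * β₁ v' b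
          rw [map_mul]; rfl
  have hβv : ∀ a b : A, β (a : A ⧸ K) (b : A ⧸ K) = P a b := fun a b => rfl
  let act : H → MulAut (A ⧸ K) := fun g => if hg : g ∈ Γ then Φ ⟨g, hg⟩ else 1
  have hact : ∀ (g : H) (hg : g ∈ Γ), act g = Φ ⟨g, hg⟩ := fun g hg => dif_pos hg
  have hmem : ∀ y : H, IsPGroup 2 (zpowers y) → y ^ 2 ^ n ∈ Γ := fun y hy =>
    commute_mem_charStab χ fun z => (mem_centralizer_iff.1 (socle_centralizes_abelian ρ hinj hr2
      (hexp y hy).1 (hexp y hy).2 (hA.to_le hP.le) (by rw [normalizer_eq_top]; exact mem_top _)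
      fun a ha b hb => (hP.cen a (hP.le ha) b hb).eq) z z.2).symm
  refine ⟨A ⧸ K, inferInstance, inferInstance, β, act, ⟨⟨hr.out, hr2, ?_, ?_, ?_⟩, ?_, ?_, hmem,
    fun y hy => (hexp y hy).1, ?_⟩, fun g hg h c => ?_⟩
  · intro v
    obtain ⟨a, rfl⟩ := QuotientGroup.mk_surjective v
    rw [← QuotientGroup.mk_pow, QuotientGroup.eq_one_iff]
    exact MonoidHom.mem_ker.2 (hP.pairing_eq_one_of_mem χ (hpow _ a.2))
  · intro v hv
    obtain ⟨a, rfl⟩ := QuotientGroup.mk_surjective v
    exact (QuotientGroup.eq_one_iff a).2 (MonoidHom.mem_ker.2 (MonoidHom.ext fun b => hv (b : A ⧸ K)))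
  · intro v v'
    obtain ⟨a, rfl⟩ := QuotientGroup.mk_surjective v
    obtain ⟨b, rfl⟩ := QuotientGroup.mk_surjective v'
    exact hswap a b
  · intro a ha b hb
    rw [hact a ha, hact b hb, hact _ (mul_mem ha hb), ← map_mul]
    rfl
  · intro g hg v v'
    obtain ⟨a, rfl⟩ := QuotientGroup.mk_surjective v
    obtain ⟨b, rfl⟩ := QuotientGroup.mk_surjective v'
    rw [hact g hg, hΦ, hΦ, hβv, hβv, hconj]
  · intro y hy
    obtain ⟨hyq, hdeg⟩ := hexp y hy
    have hyA : y ∈ normalizer (A : Set H) := by rw [normalizer_eq_top]; exact mem_top _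
    have hyZ : y ∈ normalizer (Z : Set H) := by rw [normalizer_eq_top]; exact mem_top _
    rw [hact _ (hmem y hy)]
    rcases dichotomy_unipotent ρ hr.out hr2 hyq hdeg hA hP hpow hyA hyZ hf hf0 with
      h | ⟨j, m, h1, hm, -, hbS, hb, hidx⟩
    · left
      exact MulEquiv.ext fun v => by
        induction v using QuotientGroup.induction_on with
        | _ a => exact (heq _ a).2 (h a)
    right
    refine ⟨j, m, h1, hm, hbS, fun v hv => ?_, ?_⟩
    · obtain ⟨a, rfl⟩ := QuotientGroup.mk_surjective v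
      rw [hact _ hbS]
      exact (heq _ a).2 (hb a ((heq _ a).1 hv))
    · set z := Φ ⟨y ^ 2 ^ n, hmem y hy⟩
      have hF : fixedMod P (A.normalizerMonoidHom ⟨y ^ 2 ^ n, pow_mem hyA _⟩) =
          (fixS z).comap (QuotientGroup.mk' K) := by
        ext a
        rw [mem_fixedMod, mem_comap]
        exact (heq ⟨y ^ 2 ^ n, hmem y hy⟩ a).symm
      rw [hF, index_comap_of_surjective _ (QuotientGroup.mk'_surjective K), index_eq_card] at hidx
      refine le_trans (Nat.card_le_card_of_injective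
        (fun p : negS z => ((p : A ⧸ K) : (A ⧸ K) ⧸ fixS z)) ?_) hidx
      rintro ⟨p, hp⟩ ⟨q, hq⟩ e
      have h2 : p⁻¹ * q ∈ fixS z := QuotientGroup.eq.1 e
      have h3 : p⁻¹ * q ∈ negS z := mul_mem (inv_mem hp) hq
      have h4 : (p⁻¹ * q) * (p⁻¹ * q) = 1 := by
        nth_rewrite 1 [← mem_fixS.1 h2]
        rw [mem_negS.1 h3, inv_mul_cancel]
      obtain ⟨c, hc⟩ := hr.out.odd_of_ne_two hr2
      have h5 : (p⁻¹ * q) ^ r = 1 := by
        obtain ⟨a, ha⟩ := QuotientGroup.mk_surjective (p⁻¹ * q)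
        rw [← ha, ← QuotientGroup.mk_pow, QuotientGroup.eq_one_iff]
        exact MonoidHom.mem_ker.2 (hP.pairing_eq_one_of_mem χ (hpow _ a.2))
      rw [hc, pow_succ, pow_mul, pow_two, h4, one_pow, one_mul] at h5
      exact Subtype.ext (inv_mul_eq_one.1 h5)
  · rw [hact g hg] at h
    exact (heq ⟨g, hg⟩ c).1 (DFunLike.congr_fun h _)

end CfsgLib.PGroup.ExponentTwo
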