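import Cfsg.Agent.Lib.PGroup.ExponentTwo.Facts
import Cfsg.Agent.Lib.PGroup.DerivedTwo.Main
import Cfsg.Agent.Lib.PGroup.PLengthExponent

/-!
# The `2`-length is at most the exponent of a Sylow `2`-subgroup

Proved together with: if the `2`-elements of a group acting on a module in characteristic two satisfy
`a ^ 2 ^ (N + 1) = 1` and act with deficient degree, then modulo a normal subgroup acting as a `2`-group
the `2`-length is at most `N`.
-/

set_option autoImplicit false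
set_option linter.style.haveILetI false
set_option linter.unusedSectionVars false

open Subgroup
open scoped commutatorElement

namespace CfsgLib.PGroup.ExponentTwo

open CfsgLib.PGroup
open CfsgLib.PGroup.DerivedTwo
open CfsgLib.PGroup.PLengthSeries

universe u

/-- Deficient degree of all `2`-elements. -/
def Deficient {H : Type u} [Group H] {W : Type u} [AddCommGroup W] [Module kk W]
    (ρ : H →* Module.End kk W) (N : ℕ) : Prop :=
  ∀ a : H, IsPGroup 2 (zpowers a) → (ρ a - 1) ^ (2 ^ (N + 1) - 1) = 0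

/-- The statement on modules. -/
def ModBound (N : ℕ) : Prop :=
  ∀ (H : Type u) [Group H] [Finite H] [Group.IsSolvable H] (W : Type u) [AddCommGroup W] [Module kk W]
    [FiniteDimensional kk W] (ρ : H →* Module.End kk W),
    (∀ a : H, IsPGroup 2 (zpowers a) → a ^ 2 ^ (N + 1) = 1) → Deficient ρ N →
      ∃ D : Subgroup H, (∀ x ∈ D, ∃ i : ℕ, ρ (x ^ 2 ^ i) = 1) ∧ Ser 2 N D ⊤

/-- The statement on linear groups without normal `2`-subgroup. -/
def LinBound (N : ℕ) : Prop :=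
  ∀ (H : Type u) [Group H] [Finite H] [Group.IsSolvable H] (W : Type u) [AddCommGroup W] [Module kk W]
    [FiniteDimensional kk W] (ρ : H →* Module.End kk W), Function.Injective ρ → Cfsg.pCore 2 H = ⊥ →
    (∀ a : H, IsPGroup 2 (zpowers a) → a ^ 2 ^ (N + 1) = 1) → Deficient ρ N →
      Ser 2 N (⊥ : Subgroup H) ⊤

section Operators

variable {H : Type u} [Group H] [Finite H] {W : Type u} [AddCommGroup W] [Module kk W]
  (ρ : H →* Module.End kk W) (W₁ : Submodule kk W) (hinv : ∀ h, ∀ w ∈ W₁, ρ h w ∈ W₁)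

theorem subAct_sub_one_pow (a : H) : ∀ (i : ℕ) (w : W₁),
    (((subAct ρ W₁ hinv a - 1) ^ i) w : W) = ((ρ a - 1) ^ i) (w : W)
  | 0, w => rfl
  | i + 1, w => by
    rw [pow_succ', pow_succ', Module.End.mul_apply, Module.End.mul_apply, LinearMap.sub_apply,
      LinearMap.sub_apply, Module.End.one_apply, Module.End.one_apply, Submodule.coe_sub, subAct_apply,
      subAct_sub_one_pow a i w]

theorem quotAct_sub_one_pow (a : H) : ∀ (i : ℕ) (w : W),
    ((quotAct ρ W₁ hinv a - 1) ^ i) (Submodule.Quotient.mk w) =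
      Submodule.Quotient.mk (((ρ a - 1) ^ i) w)
  | 0, w => rfl
  | i + 1, w => by
    rw [pow_succ', pow_succ', Module.End.mul_apply, Module.End.mul_apply, quotAct_sub_one_pow a i w,
      LinearMap.sub_apply, LinearMap.sub_apply, quotAct_apply, Module.End.one_apply, Module.End.one_apply,
      Submodule.Quotient.mk_sub]

theorem conj_sub_one_pow (g y : H) : ∀ i : ℕ,
    (ρ (g * y * g⁻¹) - 1) ^ i = ρ g * (ρ y - 1) ^ i * ρ g⁻¹
  | 0 => by rw [pow_zero, pow_zero, mul_one, ← map_mul, mul_inv_cancel, map_one]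
  | i + 1 => by
    have h : ρ g⁻¹ * ρ g = 1 := by rw [← map_mul, inv_mul_cancel, map_one]
    rw [pow_succ, pow_succ, conj_sub_one_pow g y i, map_mul, map_mul,
      show ρ g * ρ y * ρ g⁻¹ - 1 = ρ g * (ρ y - 1) * ρ g⁻¹ by
        rw [mul_sub, sub_mul, mul_one, ← map_mul ρ g g⁻¹, mul_inv_cancel, map_one]]
    calc ρ g * (ρ y - 1) ^ i * ρ g⁻¹ * (ρ g * (ρ y - 1) * ρ g⁻¹)
        = ρ g * (ρ y - 1) ^ i * (ρ g⁻¹ * ρ g) * (ρ y - 1) * ρ g⁻¹ := by simp only [mul_assoc]
      _ = ρ g * ((ρ y - 1) ^ i * (ρ y - 1)) * ρ g⁻¹ := by rw [h]; simp only [mul_one, mul_assoc]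

/-- It suffices to check the elements of one Sylow subgroup. -/
theorem deficient_of_sylow (T : Sylow 2 H) {N : ℕ}
    (h : ∀ t ∈ (T : Subgroup H), (ρ t - 1) ^ (2 ^ (N + 1) - 1) = 0) : Deficient ρ N := by
  intro a ha
  obtain ⟨R, hR⟩ := ha.exists_le_sylow
  obtain ⟨g, hg⟩ := MulAction.exists_smul_eq H R T
  have hgT : g * a * g⁻¹ ∈ (T : Subgroup H) := by
    rw [← hg, Sylow.coe_subgroup_smul]
    exact smul_mem_pointwise_smul _ (MulAut.conj g) _ (hR (mem_zpowers a))
  rw [show a = g⁻¹ * (g * a * g⁻¹) * g⁻¹⁻¹ by group, conj_sub_one_pow, h _ hgT, mul_zero, zero_mul]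

end Operators

theorem modBound_of_linBound {N : ℕ} (hcore : LinBound.{u} N) : ModBound.{u} N := by
  suffices key : ∀ (m : ℕ) (H : Type u) [Group H] [Finite H] [Group.IsSolvable H] (W : Type u)
      [AddCommGroup W] [Module kk W] [FiniteDimensional kk W] (ρ : H →* Module.End kk W),
      Module.finrank kk W < m → (∀ a : H, IsPGroup 2 (zpowers a) → a ^ 2 ^ (N + 1) = 1) → Deficient ρ N →
        ∃ D : Subgroup H, (∀ x ∈ D, ∃ i : ℕ, ρ (x ^ 2 ^ i) = 1) ∧ Ser 2 N D ⊤ by
    intro H _ _ _ W _ _ _ ρ h h'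
    exact key _ H W ρ (Nat.lt_succ_self _) h h'
  intro m
  induction m with
  | zero => exact fun H _ _ _ W _ _ _ ρ h => absurd h (Nat.not_lt_zero _)
  | succ m ih =>
  intro H _ _ _ W _ _ _ ρ hm hord hdef
  classical
  set π := QuotientGroup.mk' ρ.ker
  have hπs := QuotientGroup.mk'_surjective ρ.ker
  haveI : Group.IsSolvable (H ⧸ ρ.ker) := Group.isSolvable_of_surjective hπs
  let σ : H ⧸ ρ.ker →* Module.End kk W := QuotientGroup.lift ρ.ker ρ le_rfl
  have hσ : Function.Injective σ := (injective_iff_map_eq_one σ).2 fun a ha => by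
    obtain ⟨a, rfl⟩ := hπs a
    exact (QuotientGroup.eq_one_iff a).2 ha
  by_cases hO : Cfsg.pCore 2 (H ⧸ ρ.ker) = ⊥
  · have hlift : ∀ y : H ⧸ ρ.ker, IsPGroup 2 (zpowers y) → ∃ z, IsPGroup 2 (zpowers z) ∧ π z = y :=
      fun y hy => by
        obtain ⟨z, hz, e⟩ := PLengthExponent.exists_pPart_lift π hπs hy
        exact ⟨z, hz, e⟩
    have hs := ser_comap π hπs (hcore _ W σ hσ hO
      (fun y hy => by obtain ⟨z, hz, rfl⟩ := hlift y hy; rw [← map_pow, hord z hz, map_one])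
      (fun y hy => by obtain ⟨z, hz, rfl⟩ := hlift y hy; exact hdef z hz))
    rw [MonoidHom.comap_bot, QuotientGroup.ker_mk', comap_top] at hs
    exact ⟨ρ.ker, fun x hx => ⟨0, by rw [pow_zero, pow_one]; exact hx⟩, hs⟩
  haveI : (Cfsg.pCore 2 (H ⧸ ρ.ker)).Normal := CfsgLib.Coprime.pCore_normal' 2
  set O : Subgroup H := (Cfsg.pCore 2 (H ⧸ ρ.ker)).comap π with hOdef
  haveI : O.Normal := (inferInstance : (Cfsg.pCore 2 (H ⧸ ρ.ker)).Normal).comap π
  let W₁ : Submodule kk W := ⨅ g ∈ O, LinearMap.eqLocus (ρ g) 1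
  have hW₁ : ∀ w, w ∈ W₁ ↔ ∀ g ∈ O, ρ g w = w := fun w => by simp [W₁]
  have hinv : ∀ h, ∀ w ∈ W₁, ρ h w ∈ W₁ := fun h w hw => (hW₁ _).2 fun g hg => by
    rw [← rep_mul_apply, show g * h = h * (h⁻¹ * g * h⁻¹⁻¹) by group, rep_mul_apply,
      (hW₁ w).1 hw _ ((inferInstance : O.Normal).conj_mem g hg _)]
  obtain ⟨a, ha, ha1⟩ := (Cfsg.pCore 2 (H ⧸ ρ.ker)).bot_or_exists_ne_one.resolve_left hO
  obtain ⟨g₀, rfl⟩ := hπs a
  haveI : Nontrivial W := by
    by_contra hW
    rw [not_nontrivial_iff_subsingleton] at hW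
    exact ha1 (hσ (LinearMap.ext fun w => Subsingleton.elim _ _))
  obtain ⟨w₀, -, hw₀0, hw₀⟩ := exists_fixed σ (Nat.card (Cfsg.pCore 2 (H ⧸ ρ.ker))) _ le_rfl
    (CfsgLib.Coprime.pCore_isPGroup 2) ⊤ top_ne_bot fun _ _ _ _ => Submodule.mem_top
  have hne : W₁ ≠ ⊥ := fun e => hw₀0 ((Submodule.eq_bot_iff _).1 e w₀ ((hW₁ _).2 fun g hg => hw₀ _ hg))
  have htop : W₁ ≠ ⊤ := fun e => ha1 (hσ (LinearMap.ext fun w => by
    rw [map_one, Module.End.one_apply]
    exact (hW₁ w).1 (e ▸ Submodule.mem_top) g₀ ha))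
  refine combine ρ W₁ hinv (ih H W₁ (subAct ρ W₁ hinv) ?_ hord fun a ha => ?_)
    (ih H (W ⧸ W₁) (quotAct ρ W₁ hinv) ?_ hord fun a ha => ?_)
  · have := Submodule.finrank_lt htop
    omega
  · refine LinearMap.ext fun w => Subtype.ext ?_
    rw [subAct_sub_one_pow, hdef a ha]
    rfl
  · have h1 := Submodule.finrank_quotient_add_finrank W₁
    have h2 : Module.finrank kk W₁ ≠ 0 := fun e => hne (Submodule.finrank_eq_zero.1 e)
    omega
  · refine LinearMap.ext fun w => ?_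
    obtain ⟨w, rfl⟩ := Submodule.Quotient.mk_surjective W₁ w
    rw [quotAct_sub_one_pow, hdef a ha]
    rfl

theorem linBound_zero : LinBound.{u} 0 := by
  intro H _ _ _ W _ _ _ ρ hρ _ _ hdef
  obtain ⟨T⟩ : Nonempty (Sylow 2 H) := inferInstance
  have hT : (T : Subgroup H) = ⊥ := (Subgroup.eq_bot_iff_forall _).2 fun t ht => hρ (by
    rw [map_one]
    simpa [sub_eq_zero] using hdef t (T.2.to_le (zpowers_le.2 ht)))
  refine Ser.base inferInstance inferInstance bot_le ?_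
  rw [relIndex_bot_left, card_top]
  have := T.not_dvd_index
  rwa [hT, index_bot] at this

section Layer

variable {H : Type u} [Group H] {L : Subgroup H} [L.Normal] {W : Type u} [AddCommGroup W] [Module kk W]
  {ρ : H ⧸ L →* Module.End kk W} {ι : H → W}
  (hadd : ∀ x ∈ L, ∀ y ∈ L, ι (x * y) = ι x + ι y)
  (hequiv : ∀ h, ∀ x ∈ L, ρ (QuotientGroup.mk' L h) (ι x) = ι (h * x * h⁻¹))

include hadd in
theorem layer_one : ι 1 = 0 := by
  have := hadd 1 (one_mem _) 1 (one_mem _)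
  rw [mul_one] at this
  exact left_eq_add.1 this

include hadd in
theorem layer_inv {x : H} (hx : x ∈ L) : ι x⁻¹ = - ι x :=
  eq_neg_of_add_eq_zero_left (by rw [← hadd _ (inv_mem hx) _ hx, inv_mul_cancel, layer_one hadd])

include hadd in
theorem layer_mem_span {C : Set H} (hC : C ⊆ L) {x : H} (hx : x ∈ closure C) :
    ι x ∈ Submodule.span kk (ι '' C) := by
  induction hx using Subgroup.closure_induction with
  | mem c hc => exact Submodule.subset_span ⟨c, hc, rfl⟩
  | one => rw [layer_one hadd]; exact zero_mem _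
  | mul a b ha hb ha' hb' =>
    rw [hadd a ((closure_le L).2 hC ha) b ((closure_le L).2 hC hb)]; exact add_mem ha' hb'
  | inv a ha ha' => rw [layer_inv hadd ((closure_le L).2 hC ha)]; exact neg_mem ha'

include hadd in
theorem layer_odd {x : H} (hx : x ∈ L) {i : ℕ} (hi : x ^ i = 1) (hodd : Odd i) : ι x = 0 := by
  have h : ∀ j : ℕ, ι (x ^ j) = (j : kk) • ι x := by
    intro j
    induction j with
    | zero => rw [pow_zero, layer_one hadd, Nat.cast_zero, zero_smul]
    | succ j ih => rw [pow_succ, hadd _ (pow_mem hx j) x hx, ih, Nat.cast_succ, add_smul, one_smul]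
  have h1 := h i
  obtain ⟨c, rfl⟩ := hodd
  rw [hi, layer_one hadd, show ((2 * c + 1 : ℕ) : kk) = 1 by simp [CharTwo.two_eq_zero], one_smul] at h1
  exact h1.symm

include hadd hequiv in
/-- The geometric sum on the layer. -/
theorem layer_sum (g : H) {x : H} (hx : x ∈ L) : ∀ i : ℕ, (x * g) ^ i * (g ^ i)⁻¹ ∈ L ∧
    ∑ j ∈ Finset.range i, ((ρ (QuotientGroup.mk' L g)) ^ j) (ι x) = ι ((x * g) ^ i * (g ^ i)⁻¹)
  | 0 => by simp [layer_one hadd]
  | i + 1 => by
    obtain ⟨hm, hs⟩ := layer_sum g hx i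
    have hc : g ^ i * x * (g ^ i)⁻¹ ∈ L := (inferInstance : L.Normal).conj_mem x hx _
    have e : (x * g) ^ (i + 1) * (g ^ (i + 1))⁻¹ =
        ((x * g) ^ i * (g ^ i)⁻¹) * (g ^ i * x * (g ^ i)⁻¹) := by
      rw [pow_succ (x * g), pow_succ g]; group
    rw [e, Finset.sum_range_succ, hs, ← map_pow, ← map_pow, hequiv _ x hx, hadd _ hm _ hc]
    exact ⟨mul_mem hm hc, rfl⟩

include hadd hequiv in
theorem layer_geom (g : H) {x : H} (hx : x ∈ L) (i : ℕ) :
    ((ρ (QuotientGroup.mk' L g) - 1 : Module.End kk W) ^ (2 ^ i - 1)) (ι x) = ι ((x * g) ^ 2 ^ i * (g ^ 2 ^ i)⁻¹) := by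
  rw [ModularB.sub_one_pow_geom (k := kk) (p := 2), LinearMap.sum_apply]
  exact (layer_sum hadd hequiv g hx _).2

end Layer

theorem linBound_succ {N : ℕ} (hmod : ModBound.{u} N) : LinBound.{u} (N + 1) := by
  classical
  intro H _ _ _ W₀ _ _ _ ρ₀ hρ₀ hbot hord hdef
  obtain ⟨T⟩ : Nonempty (Sylow 2 H) := inferInstance
  obtain ⟨L, hLn, W, instA, instM, instF, ρ, ι, hρ, hO, hser, hspan, hadd, hequiv, hLeq, -⟩ := layer T
  set π := QuotientGroup.mk' L with hπ
  have hπs := QuotientGroup.mk'_surjective L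
  haveI : Group.IsSolvable (H ⧸ L) := Group.isSolvable_of_surjective hπs
  have hexp : ∀ y : H, IsPGroup 2 (zpowers y) →
      y ^ 2 ^ (N + 1 + 1) = 1 ∧ (ρ₀ y - 1) ^ (2 ^ (N + 1 + 1) - 1) = 0 :=
    fun y hy => ⟨hord y hy, hdef y hy⟩
  set U := (Cfsg.upperPSeries 2 H 1).1 with hU
  haveI hUn : U.Normal := (Cfsg.upperPSeries 2 H 1).2
  have hUodd : ∀ x ∈ U, Odd (orderOf x) := fun x hx => by
    rw [hU, pPrimeCore_eq_term_one] at hx
    rw [← Nat.coprime_two_right]
    refine Nat.Coprime.coprime_dvd_left ?_ (CfsgLib.Coprime.pPrimeCore_coprime (G := H) Nat.prime_two)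
    rw [← Subgroup.orderOf_mk x hx]
    exact orderOf_dvd_natCard _
  have hLstep : L = stepP 2 U := hLeq.trans (upperPSeries_succ_odd (n := 1) (by simp))
  have hUL : U ≤ L := hLstep ▸ QuotientGroup.le_comap_mk' _ _
  -- `L` is covered by its odd part and the Sylow subgroup
  obtain ⟨R, hR⟩ := CfsgLib.LS.sylow_inf_normal T L
  have hsup : L ≤ U ⊔ (T : Subgroup H) ⊓ L := by
    rw [← relIndex_eq_one]
    have h1 : (U ⊔ (T : Subgroup H) ⊓ L).relIndex L ∣ U.relIndex L := relIndex_dvd_of_le_left _ le_sup_left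
    have h2 : (U ⊔ (T : Subgroup H) ⊓ L).relIndex L ∣ ((T : Subgroup H) ⊓ L).relIndex L :=
      relIndex_dvd_of_le_left _ le_sup_right
    obtain ⟨e, he⟩ : ∃ e, U.relIndex L = 2 ^ e := by
      rw [hLstep, stepP, PLengthSeries.relIndex_comap]
      exact IsPGroup.iff_card.1 (CfsgLib.Coprime.pCore_isPGroup 2)
    have h3 : ¬ 2 ∣ ((T : Subgroup H) ⊓ L).relIndex L := by
      rw [← hR, relIndex, subgroupOf, comap_map_eq_self_of_injective L.subtype_injective]
      exact R.not_dvd_index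
    exact Nat.eq_one_of_dvd_coprimes ((Nat.prime_two.coprime_iff_not_dvd.2 h3).pow_left e) (he ▸ h1) h2
  have hS : Setting (T : Subgroup H) L U (N + 1) :=
    { two := T.2
      normL := hLn
      normU := hUn
      le := hUL
      socle := fun y hy => by
        rw [hLstep, (step_congr (pPrimeCore_eq_term_one (p := 2) (G := H))).2]
        exact GrossTwo.socle_mem_two_prime_two ρ₀ hρ₀ hbot hexp hy
      disj := fun x hxT hxU => by
        obtain ⟨i, hi⟩ := T.2 ⟨x, hxT⟩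
        exact orderOf_eq_one_iff.1 (Nat.eq_one_of_dvd_coprimes
          ((Nat.coprime_two_right.2 (hUodd x hxU)).pow_right i) dvd_rfl
          (orderOf_dvd_of_pow_eq_one (congrArg Subtype.val hi)))
      lift := fun a ha => by
        obtain ⟨T', hT'⟩ := ha.exists_le_sylow
        obtain ⟨R', hR'⟩ := CfsgLib.LS.sylow_inf_normal T' L
        obtain ⟨l, hl⟩ := MulAction.exists_smul_eq L R R'
        obtain ⟨c, hc, t, ht, hct⟩ := mem_sup_of_normal_left.1 (hsup l.2)
        have hmem : ∀ x : H, c * x * c⁻¹ ∈ (T' : Subgroup H) ⊓ L ↔ x ∈ (T : Subgroup H) ⊓ L := by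
          intro x
          have h1 : (T' : Subgroup H) ⊓ L =
              ((T : Subgroup H) ⊓ L).map (MulAut.conj (l : H)).toMonoidHom := by
            rw [← hR, ← hR', ← hl, Sylow.coe_subgroup_smul]
            ext y
            simp only [mem_map, Subgroup.mem_smul_pointwise_iff_exists]
            constructor
            · rintro ⟨_, ⟨r, hr, rfl⟩, rfl⟩
              exact ⟨r, ⟨r, hr, rfl⟩, rfl⟩
            · rintro ⟨_, ⟨r, hr, rfl⟩, rfl⟩
              exact ⟨_, ⟨r, hr, rfl⟩, rfl⟩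
          rw [h1, mem_map]
          constructor
          · rintro ⟨y, hy, e⟩
            change (l : H) * y * (l : H)⁻¹ = c * x * c⁻¹ at e
            rw [← hct, show c * t * y * (c * t)⁻¹ = c * (t * y * t⁻¹) * c⁻¹ by group] at e
            rw [← mul_left_cancel (mul_right_cancel e)]
            exact mul_mem (mul_mem ht hy) (inv_mem ht)
          · intro hx
            refine ⟨t⁻¹ * x * t, mul_mem (mul_mem (inv_mem ht) hx) ht, ?_⟩
            show (l : H) * (t⁻¹ * x * t) * (l : H)⁻¹ = c * x * c⁻¹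
            rw [← hct]; group
        refine ⟨c, hc, (T' : Subgroup H).map (MulAut.conj c⁻¹).toMonoidHom, T'.2.map _, fun x hx => ?_,
          fun x hx => ?_, ⟨a, hT' (mem_zpowers a), by simp⟩⟩
        · refine ⟨c * x * c⁻¹, ((hmem x).2 hx).1, ?_⟩
          show c⁻¹ * (c * x * c⁻¹) * c⁻¹⁻¹ = x
          group
        · obtain ⟨⟨y, hy, e⟩, hxL⟩ := hx
          change c⁻¹ * y * c⁻¹⁻¹ = x at e
          subst e
          refine ((hmem _).1 ⟨?_, hLn.conj_mem _ hxL c⟩).1
          rw [show c * (c⁻¹ * y * c⁻¹⁻¹) * c⁻¹ = y by group]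
          exact hy }
  -- the filtration
  set M := closure (socSet (T : Subgroup H) L (N + 1)) with hM
  have hMT : ∀ {x}, x ∈ M → x ∈ (T : Subgroup H) ∧ x ∈ L := fun hx => span_le_inf hx
  have hιU : ∀ x ∈ U, ι x = 0 := fun x hx =>
    layer_odd hadd (hUL hx) (pow_orderOf_eq_one x) (hUodd x hx)
  have hιmul : ∀ m ∈ M, ∀ x ∈ U, ι (m * x) = ι m := fun m hm x hx => by
    rw [hadd m (hMT hm).2 x (hUL hx), hιU x hx, add_zero]
  have hnorm : ∀ h : H, ∀ x ∈ M, h * x * h⁻¹ ∈ M ⊔ U := by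
    intro h x hx
    induction hx using Subgroup.closure_induction with
    | mem s hs =>
      obtain ⟨-, -, a, ha, rfl⟩ := hs
      have ha' : IsPGroup 2 (zpowers (h * a * h⁻¹)) := by
        have := ha.map (MulAut.conj h).toMonoidHom
        rwa [MonoidHom.map_zpowers] at this
      obtain ⟨c, hc, P, hP, -, hle, hb⟩ := hS.lift _ ha'
      have hb2 : IsPGroup 2 (zpowers (c⁻¹ * (h * a * h⁻¹) * c)) := hP.to_le (zpowers_le.2 hb)
      have hm : (c⁻¹ * (h * a * h⁻¹) * c) ^ 2 ^ (N + 1) ∈ M :=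
        subset_closure ⟨hle ⟨pow_mem hb _, hS.socle _ hb2⟩, hS.socle _ hb2, _, hb2, rfl⟩
      rw [show h * a ^ 2 ^ (N + 1) * h⁻¹ = c * (c⁻¹ * (h * a * h⁻¹) * c) ^ 2 ^ (N + 1) * c⁻¹ by
        rw [← conj_pow, ← conj_pow]; congr 1; group]
      exact mul_mem (mul_mem (mem_sup_right hc) (mem_sup_left hm)) (inv_mem (mem_sup_right hc))
    | one => rw [mul_one, mul_inv_cancel]; exact one_mem _
    | mul a b _ _ ha hb => rw [← conj_mul]; exact mul_mem ha hb
    | inv a _ ha => rw [← conj_inv]; exact inv_mem ha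
  set Ω := omega M with hΩ
  have hnormΩ : ∀ h : H, ∀ x ∈ Ω, ∃ m ∈ Ω, ∃ u ∈ U, m * u = h * x * h⁻¹ := by
    intro h x hx
    obtain ⟨m, hm, u, hu, e⟩ := mem_sup_of_normal_right.1 (hnorm h x hx.1)
    let π' := QuotientGroup.mk' U
    have hu' : π' u = 1 := (QuotientGroup.eq_one_iff u).2 hu
    have hmim : π' m = π' h * π' x * (π' h)⁻¹ := by
      have := congrArg π' e
      rwa [map_mul, hu', mul_one, map_mul, map_mul, map_inv] at this
    refine ⟨m, ⟨hm, hS.disj _ (mul_mem (hMT hm).1 (hMT hm).1) ?_, fun c hc => ?_⟩, u, hu, e⟩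
    · refine (QuotientGroup.eq_one_iff _).1 (show π' (m * m) = 1 from ?_)
      rw [map_mul, hmim, conj_mul, ← map_mul π' x x, hx.2.1, map_one, mul_one, mul_inv_cancel]
    · refine commutatorElement_eq_one_iff_commute.1 (hS.disj _ ?_ ?_)
      · rw [commutatorElement_def]
        exact mul_mem (mul_mem (mul_mem (hMT hc).1 (hMT hm).1) (inv_mem (hMT hc).1)) (inv_mem (hMT hm).1)
      obtain ⟨m', hm', u', hu'', e'⟩ := mem_sup_of_normal_right.1 (hnorm h⁻¹ c hc)
      have hu3 : π' u' = 1 := (QuotientGroup.eq_one_iff u').2 hu''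
      have h1 : π' m' = (π' h)⁻¹ * π' c * π' h := by
        have := congrArg π' e'
        rwa [map_mul, hu3, mul_one, inv_inv, map_mul, map_mul, map_inv] at this
      have h2 : Commute (π' m') (π' x) := (hx.2.2 m' hm').map π'
      have h3 : Commute (π' h * π' m' * (π' h)⁻¹) (π' m) := hmim ▸ h2.conj (π' h)
      rw [h1, show π' h * ((π' h)⁻¹ * π' c * π' h) * (π' h)⁻¹ = π' c by group] at h3
      refine (QuotientGroup.eq_one_iff _).1 (show π' ⁅c, m⁆ = 1 from ?_)
      rw [map_commutatorElement, commutatorElement_eq_one_iff_commute.2 h3]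
  set W₁ := Submodule.span kk (ι '' (M : Set H)) with hW₁
  set W₂ := Submodule.span kk (ι '' (Ω : Set H)) with hW₂
  have hinvof : ∀ C : Subgroup H, C ≤ L →
      (∀ h : H, ∀ x ∈ C, ι (h * x * h⁻¹) ∈ Submodule.span kk (ι '' (C : Set H))) →
      ∀ g, ∀ w ∈ Submodule.span kk (ι '' (C : Set H)), ρ g w ∈ Submodule.span kk (ι '' (C : Set H)) := by
    intro C hC hconj g w hw
    obtain ⟨h, rfl⟩ := hπs g
    have hle : Submodule.span kk (ι '' (C : Set H)) ≤
        (Submodule.span kk (ι '' (C : Set H))).comap (ρ (π h)) := Submodule.span_le.2 fun y ⟨x, hx, e⟩ => by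
      show ρ (π h) y ∈ Submodule.span kk (ι '' (C : Set H))
      rw [← e, hequiv h x (hC hx)]
      exact hconj h x hx
    exact hle hw
  have hinv₁ : ∀ g, ∀ w ∈ W₁, ρ g w ∈ W₁ := hinvof M (fun x hx => (hMT hx).2) fun h x hx => by
    obtain ⟨m, hm, u, hu, e⟩ := mem_sup_of_normal_right.1 (hnorm h x hx)
    rw [← e, hιmul m hm u hu]
    exact Submodule.subset_span ⟨m, hm, rfl⟩
  have hinv₂ : ∀ g, ∀ w ∈ W₂, ρ g w ∈ W₂ := hinvof Ω (fun x hx => (hMT hx.1).2) fun h x hx => by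
    obtain ⟨m, hm, u, hu, e⟩ := hnormΩ h x hx
    rw [← e, hιmul m hm.1 u hu]
    exact Submodule.subset_span ⟨m, hm, rfl⟩
  set q := 2 ^ (N + 1) - 1 with hq
  -- the three values of the operator
  have op : ∀ t ∈ (T : Subgroup H), ∀ (C : Set H) (W' : Submodule kk W), C ⊆ L →
      (∀ x ∈ C, ι ((x * t) ^ 2 ^ (N + 1) * (t ^ 2 ^ (N + 1))⁻¹) ∈ W') →
      ∀ w ∈ Submodule.span kk (ι '' C), ((ρ (π t) - 1) ^ q) w ∈ W' := by
    intro t _ C W' hC hval w hw
    have hle : Submodule.span kk (ι '' C) ≤ W'.comap ((ρ (π t) - 1) ^ q) :=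
      Submodule.span_le.2 fun y ⟨x, hx, e⟩ => by
        show ((ρ (π t) - 1) ^ q) y ∈ W'
        rw [← e, hq, layer_geom hadd hequiv t (hC hx)]
        exact hval x hx
    exact hle hw
  have hop0 : ∀ t ∈ (T : Subgroup H), ∀ w, ((ρ (π t) - 1) ^ q) w ∈ W₁ := fun t ht w =>
    op t ht _ W₁ (fun x hx => hx.2) (fun x hx => Submodule.subset_span ⟨_, mul_mem
      (subset_closure (hS.pow_mem_socSet (mul_mem hx.1 ht)))
      (inv_mem (subset_closure (hS.pow_mem_socSet ht))), rfl⟩) w (hspan.ge Submodule.mem_top)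
  have hop1 : ∀ t ∈ (T : Subgroup H), ∀ w ∈ W₁, ((ρ (π t) - 1) ^ q) w ∈ W₂ := fun t ht =>
    op t ht _ W₂ (fun x hx => (hMT hx).2) fun x hx =>
      Submodule.subset_span ⟨_, socle_quot_omega hρ₀ hbot hexp hS ht hx, rfl⟩
  have hop2 : ∀ t ∈ (T : Subgroup H), ∀ w ∈ W₂, ((ρ (π t) - 1) ^ q) w = 0 := fun t ht w hw =>
    (Submodule.mem_bot kk).1 (op t ht _ ⊥ (fun x hx => (hMT hx.1).2) (fun x hx => by
      rw [socle_eq_of_omega hρ₀ hbot hexp hS ht hx, mul_inv_cancel, layer_one hadd]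
      exact zero_mem _) w hw)
  set T' : Sylow 2 (H ⧸ L) := T.mapSurjective hπs with hT'
  have hT'c : ∀ y ∈ (T' : Subgroup (H ⧸ L)), ∃ t ∈ (T : Subgroup H), π t = y := fun y hy => by
    rw [hT', Sylow.coe_mapSurjective] at hy
    exact hy
  have hordX : ∀ y : H ⧸ L, IsPGroup 2 (zpowers y) → y ^ 2 ^ (N + 1) = 1 := fun y hy => by
    obtain ⟨z, hz, rfl⟩ := PLengthExponent.exists_pPart_lift π hπs hy
    rw [← map_pow]
    exact (QuotientGroup.eq_one_iff _).2 (hS.socle z hz)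
  -- the bounds on the three sections
  set ρ₁ := subAct ρ W₁ hinv₁
  set W₂' : Submodule kk W₁ := W₂.comap W₁.subtype
  have hinv' : ∀ g, ∀ w ∈ W₂', ρ₁ g w ∈ W₂' := fun g w hw => hinv₂ g _ hw
  have b1 := hmod (H ⧸ L) W₂' (subAct ρ₁ W₂' hinv') hordX (deficient_of_sylow _ T' fun y hy => by
    obtain ⟨t, ht, rfl⟩ := hT'c y hy
    refine LinearMap.ext fun w => Subtype.ext (Subtype.ext ?_)
    rw [subAct_sub_one_pow, subAct_sub_one_pow]
    exact hop2 t ht _ w.2)
  have b2 := hmod (H ⧸ L) (W₁ ⧸ W₂') (quotAct ρ₁ W₂' hinv') hordX (deficient_of_sylow _ T' fun y hy => by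
    obtain ⟨t, ht, rfl⟩ := hT'c y hy
    refine LinearMap.ext fun w => ?_
    obtain ⟨w, rfl⟩ := Submodule.Quotient.mk_surjective W₂' w
    rw [quotAct_sub_one_pow, LinearMap.zero_apply, Submodule.Quotient.mk_eq_zero]
    show ((((ρ₁ (π t) - 1) ^ q) w : W₁) : W) ∈ W₂
    rw [subAct_sub_one_pow]
    exact hop1 t ht _ w.2)
  have b3 := hmod (H ⧸ L) (W ⧸ W₁) (quotAct ρ W₁ hinv₁) hordX (deficient_of_sylow _ T' fun y hy => by
    obtain ⟨t, ht, rfl⟩ := hT'c y hy
    refine LinearMap.ext fun w => ?_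
    obtain ⟨w, rfl⟩ := Submodule.Quotient.mk_surjective W₁ w
    rw [quotAct_sub_one_pow, LinearMap.zero_apply, Submodule.Quotient.mk_eq_zero]
    exact hop0 t ht w)
  obtain ⟨D, hD, hs⟩ := combine ρ W₁ hinv₁ (combine ρ₁ W₂' hinv' b1 b2) b3
  have hDbot : D = ⊥ := by
    haveI : D.Normal := hs.normal_le.1
    refine le_bot_iff.1 (le_of_le_of_eq (CfsgLib.Coprime.le_pCore fun ⟨x, hx⟩ => ?_) hO)
    exact (hD x hx).imp fun i hi => Subtype.ext (hρ (hi.trans (map_one ρ).symm))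
  have hs' := ser_comap π hπs (hDbot ▸ hs)
  rw [MonoidHom.comap_bot, QuotientGroup.ker_mk', comap_top] at hs'
  have := hser.trans Nat.prime_two hs'
  rwa [add_comm] at this

theorem modBound : ∀ N : ℕ, ModBound.{u} N
  | 0 => modBound_of_linBound linBound_zero
  | N + 1 => modBound_of_linBound (linBound_succ (modBound N))

/-- **The `2`-length is at most the exponent of a Sylow `2`-subgroup.** -/
theorem pLengthLE_of_exponent {G : Type u} [Group G] [Finite G] (hG : Cfsg.IsPSolvable 2 G) (e : ℕ)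
    (hexp : ∀ P : Sylow 2 G, ∀ x ∈ (P : Subgroup G), x ^ 2 ^ e = 1) : Cfsg.PLengthLE 2 e G := by
  haveI := isSolvable_of_isPSolvable_two _ G le_rfl hG
  obtain ⟨S⟩ : Nonempty (Sylow 2 G) := inferInstance
  refine pLengthLE_of_ser ?_
  rcases e with _ | N
  · refine Ser.base inferInstance inferInstance bot_le ?_
    rw [relIndex_bot_left, card_top]
    have hbot : (S : Subgroup G) = ⊥ := (Subgroup.eq_bot_iff_forall _).2 fun x hx => by
      simpa using hexp S x hx
    have := S.not_dvd_index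
    rwa [hbot, index_bot] at this
  obtain ⟨L, hLn, W, instA, instM, instF, ρ, ι, hρ, hO, hser, hspan, hadd, hequiv, -⟩ := layer S
  set π := QuotientGroup.mk' L with hπ
  have hπs := QuotientGroup.mk'_surjective L
  haveI : Group.IsSolvable (G ⧸ L) := Group.isSolvable_of_surjective hπs
  have hordX : ∀ y : G ⧸ L, IsPGroup 2 (zpowers y) → y ^ 2 ^ (N + 1) = 1 := fun y hy => by
    obtain ⟨z, hz, rfl⟩ := PLengthExponent.exists_pPart_lift π hπs hy
    obtain ⟨R, hR⟩ := hz.exists_le_sylow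
    rw [← map_pow, hexp R z (hR (mem_zpowers z)), map_one]
  obtain ⟨D, hD, hs⟩ := modBound N (G ⧸ L) W ρ hordX (deficient_of_sylow ρ (S.mapSurjective hπs) fun y hy => by
    rw [Sylow.coe_mapSurjective] at hy
    obtain ⟨t, ht, rfl⟩ := hy
    refine LinearMap.ext_on hspan ?_
    rintro _ ⟨x, hx, rfl⟩
    rw [layer_geom hadd hequiv t hx.2, hexp S _ (mul_mem hx.1 ht), hexp S t ht, inv_one, mul_one,
      layer_one hadd, LinearMap.zero_apply])
  have hDbot : D = ⊥ := by
    haveI : D.Normal := hs.normal_le.1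
    refine le_bot_iff.1 (le_of_le_of_eq (CfsgLib.Coprime.le_pCore fun ⟨x, hx⟩ => ?_) hO)
    exact (hD x hx).imp fun i hi => Subtype.ext (hρ (hi.trans (map_one ρ).symm))
  have hs' := ser_comap π hπs (hDbot ▸ hs)
  rw [MonoidHom.comap_bot, QuotientGroup.ker_mk', comap_top] at hs'
  have := hser.trans Nat.prime_two hs'
  rwa [add_comm] at this

end CfsgLib.PGroup.ExponentTwo
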