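import Cfsg.Agent.Lib.PGroup.GrossTwo.Monomial
import Cfsg.Agent.Lib.PGroup.HallHighmanFrob
import Cfsg.Agent.Lib.PGroup.PqWeights
import Mathlib.Tactic.Group

/-!
# Automorphisms of a paired abelian group inverting a plane

`V` is an abelian group of odd prime exponent `r` with a nondegenerate alternating pairing `β`.  An
involution preserving `β` splits `V` into the fixed and the inverted part, orthogonal to each other; when
the inverted part has order at most `r * r`, an automorphism commuting with it is `±1` there as soon as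
its square is trivial there.
-/

set_option autoImplicit false
set_option linter.style.haveILetI false
set_option linter.unusedSectionVars false

open Subgroup

namespace CfsgLib.PGroup.ExponentTwo

universe u v

variable {V : Type u} [CommGroup V]

/-- The fixed elements. -/
def fixS (g : MulAut V) : Subgroup V where
  carrier := {v | g v = v}
  one_mem' := map_one g
  mul_mem' := fun {a b} ha hb => by
    show g (a * b) = a * b
    rw [map_mul, ha, hb]
  inv_mem' := fun {a} ha => by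
    show g a⁻¹ = a⁻¹
    rw [map_inv, ha]

/-- The inverted elements. -/
def negS (g : MulAut V) : Subgroup V where
  carrier := {v | g v = v⁻¹}
  one_mem' := by show g 1 = 1⁻¹; rw [map_one, inv_one]
  mul_mem' := fun {a b} ha hb => by
    show g (a * b) = (a * b)⁻¹
    rw [map_mul, ha, hb, mul_inv]
  inv_mem' := fun {a} ha => by
    show g a⁻¹ = a⁻¹⁻¹
    rw [map_inv, ha]

theorem mem_fixS {g : MulAut V} {v : V} : v ∈ fixS g ↔ g v = v := Iff.rfl

theorem mem_negS {g : MulAut V} {v : V} : v ∈ negS g ↔ g v = v⁻¹ := Iff.rfl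

theorem apply_apply {z : MulAut V} (hz : z * z = 1) (v : V) : z (z v) = v := by
  rw [← MulAut.mul_apply, hz, MulAut.one_apply]

theorem comm_apply {g x : MulAut V} (h : Commute g x) (v : V) : g (x v) = x (g v) := by
  rw [← MulAut.mul_apply, h.eq, MulAut.mul_apply]

theorem map_fixS {g z : MulAut V} (h : Commute g z) {v : V} (hv : v ∈ fixS z) : g v ∈ fixS z := by
  rw [mem_fixS, ← comm_apply h, mem_fixS.1 hv]

theorem map_negS {g z : MulAut V} (h : Commute g z) {v : V} (hv : v ∈ negS z) : g v ∈ negS z := by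
  rw [mem_negS, ← comm_apply h, mem_negS.1 hv, map_inv]

theorem conj_negS (g z : MulAut V) {v : V} (hv : v ∈ negS z) : g v ∈ negS (g * z * g⁻¹) := by
  rw [mem_negS, MulAut.mul_apply, MulAut.mul_apply, MulAut.inv_apply_self, mem_negS.1 hv, map_inv]

theorem conj_fixS (g z : MulAut V) {v : V} (hv : v ∈ fixS z) : g v ∈ fixS (g * z * g⁻¹) := by
  rw [mem_fixS, MulAut.mul_apply, MulAut.mul_apply, MulAut.inv_apply_self, mem_fixS.1 hv]

theorem conj_negS_iff (g z : MulAut V) {v : V} : g v ∈ negS (g * z * g⁻¹) ↔ v ∈ negS z := by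
  refine ⟨fun h => ?_, conj_negS g z⟩
  have h1 := conj_negS g⁻¹ _ h
  rwa [MulAut.inv_apply_self, show g⁻¹ * (g * z * g⁻¹) * g⁻¹⁻¹ = z by group] at h1

theorem card_negS_conj (g z : MulAut V) : Nat.card (negS (g * z * g⁻¹)) = Nat.card (negS z) :=
  (Nat.card_congr
    (Equiv.subtypeEquiv g.toEquiv fun v => (conj_negS_iff g z (v := v)).symm)).symm

/-- A pairing. -/
structure Paired (r : ℕ) {A : Type v} [CommGroup A] (β : V →* V →* A) : Prop where
  prime : r.Prime
  odd : r ≠ 2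
  pow : ∀ v : V, v ^ r = 1
  nondeg : ∀ a, (∀ b, β a b = 1) → a = 1
  swap : ∀ a b, β a b * β b a = 1

/-- Preserving a pairing. -/
def Pres {A : Type v} [CommGroup A] (β : V →* V →* A) (g : MulAut V) : Prop :=
  ∀ x y, β (g x) (g y) = β x y

theorem Pres.mul {A : Type v} [CommGroup A] {β : V →* V →* A} {g h : MulAut V} (hg : Pres β g)
    (hh : Pres β h) : Pres β (g * h) := fun x y => by
  rw [MulAut.mul_apply, MulAut.mul_apply, hg, hh]

theorem Pres.inv {A : Type v} [CommGroup A] {β : V →* V →* A} {g : MulAut V} (hg : Pres β g) :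
    Pres β g⁻¹ := fun x y => by
  rw [← hg (g⁻¹ x) (g⁻¹ y), MulAut.apply_inv_self, MulAut.apply_inv_self]

namespace Paired

variable [Finite V] {r : ℕ} {A : Type v} [CommGroup A] {β : V →* V →* A} (hβ : Paired r β)
include hβ

theorem eq_one_of_sq {v : V} (h : v * v = 1) : v = 1 := by
  obtain ⟨c, hc⟩ := hβ.prime.odd_of_ne_two hβ.odd
  have h1 := hβ.pow v
  rwa [hc, pow_succ, pow_mul, pow_two, h, one_pow, one_mul] at h1

theorem pair_pow (a b : V) : β a b ^ r = 1 := by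
  rw [← map_pow, hβ.pow, map_one]

theorem pair_eq_one_of_sq {a b : V} (h : β a b * β a b = 1) : β a b = 1 := by
  obtain ⟨c, hc⟩ := hβ.prime.odd_of_ne_two hβ.odd
  have h1 := hβ.pair_pow a b
  rwa [hc, pow_succ, pow_mul, pow_two, h, one_pow, one_mul] at h1

theorem pair_swap (a b : V) : β b a = (β a b)⁻¹ :=
  eq_inv_of_mul_eq_one_right (hβ.swap a b)

theorem pair_self (a : V) : β a a = 1 := hβ.pair_eq_one_of_sq (hβ.swap a a)

theorem inf_eq_bot {g : MulAut V} {v : V} (h1 : v ∈ fixS g) (h2 : v ∈ negS g) : v = 1 := by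
  refine hβ.eq_one_of_sq ?_
  nth_rewrite 1 [← mem_fixS.1 h1]
  rw [mem_negS.1 h2, inv_mul_cancel]

theorem split {z : MulAut V} (hz : z * z = 1) (v : V) :
    ∃ a ∈ fixS z, ∃ b ∈ negS z, v = a * b := by
  obtain ⟨c, hc⟩ := hβ.prime.odd_of_ne_two hβ.odd
  refine ⟨(v * z v) ^ (c + 1), ?_, (v * (z v)⁻¹) ^ (c + 1), ?_, ?_⟩
  · rw [mem_fixS, map_pow, map_mul, apply_apply hz, mul_comm]
  · rw [mem_negS, map_pow, map_mul, map_inv, apply_apply hz, ← inv_pow, mul_inv, inv_inv, mul_comm]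
  · rw [← mul_pow, mul_mul_mul_comm, mul_inv_cancel, mul_one, ← pow_two, ← pow_mul,
      show 2 * (c + 1) = r + 1 by omega, pow_succ, hβ.pow, one_mul]

theorem ext_split {z f g : MulAut V} (hz : z * z = 1) (h1 : ∀ a ∈ fixS z, f a = g a)
    (h2 : ∀ b ∈ negS z, f b = g b) : f = g := by
  refine MulEquiv.ext fun v => ?_
  obtain ⟨a, ha, b, hb, rfl⟩ := hβ.split hz v
  rw [map_mul, map_mul, h1 a ha, h2 b hb]

theorem orth {z : MulAut V} (hzP : Pres β z) {a b : V} (ha : a ∈ fixS z) (hb : b ∈ negS z) :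
    β a b = 1 := by
  refine hβ.pair_eq_one_of_sq ?_
  have h := hzP a b
  rw [mem_fixS.1 ha, mem_negS.1 hb, map_inv] at h
  nth_rewrite 1 [← h]
  exact inv_mul_cancel _

theorem orth' {z : MulAut V} (hzP : Pres β z) {a b : V} (ha : a ∈ fixS z) (hb : b ∈ negS z) :
    β b a = 1 := by
  rw [hβ.pair_swap a b, hβ.orth hzP ha hb, inv_one]

/-- An inverted element has a partner among the inverted ones. -/
theorem exists_partner {z : MulAut V} (hz : z * z = 1) (hzP : Pres β z) {a : V} (ha : a ∈ negS z)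
    (ha1 : a ≠ 1) : ∃ c ∈ negS z, β a c ≠ 1 := by
  by_contra h
  push Not at h
  refine ha1 (hβ.nondeg a fun b => ?_)
  obtain ⟨p, hp, q, hq, rfl⟩ := hβ.split hz b
  rw [map_mul, hβ.orth' hzP hp ha, h q hq, one_mul]

theorem orderOf_eq {a : V} (ha : a ≠ 1) : orderOf a = r := by
  haveI := Fact.mk hβ.prime
  exact orderOf_eq_prime (hβ.pow a) ha

theorem pow_inj {a : V} (ha : a ≠ 1) {i j : Fin r} (h : a ^ (i : ℕ) = a ^ (j : ℕ)) : i = j :=
  Fin.ext (pow_injOn_Iio_orderOf (Set.mem_Iio.2 (by rw [hβ.orderOf_eq ha]; exact i.2))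
    (Set.mem_Iio.2 (by rw [hβ.orderOf_eq ha]; exact j.2)) h)

theorem pair_inj {a c : V} (hac : β a c ≠ 1) {i j i' j' : Fin r}
    (h : a ^ (i : ℕ) * c ^ (j : ℕ) = a ^ (i' : ℕ) * c ^ (j' : ℕ)) : i = i' ∧ j = j' := by
  haveI := Fact.mk hβ.prime
  have ha1 : a ≠ 1 := fun e => hac (by rw [e, map_one, MonoidHom.one_apply])
  have hj : j = j' := by
    have h1 := congrArg (β a) h
    simp only [map_mul, map_pow, hβ.pair_self, one_pow, one_mul] at h1
    have ho : orderOf (β a c) = r := orderOf_eq_prime (hβ.pair_pow a c) hac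
    exact Fin.ext (pow_injOn_Iio_orderOf (Set.mem_Iio.2 (by rw [ho]; exact j.2))
      (Set.mem_Iio.2 (by rw [ho]; exact j'.2)) h1)
  subst hj
  exact ⟨hβ.pow_inj ha1 (mul_right_cancel h), rfl⟩

/-- A nontrivial involution inverts at least a plane. -/
theorem le_card_negS {z : MulAut V} (hz : z * z = 1) (hzP : Pres β z) (hz1 : z ≠ 1) :
    r * r ≤ Nat.card (negS z) := by
  obtain ⟨a, ha, ha1⟩ : ∃ a ∈ negS z, a ≠ 1 := by
    by_contra h
    push Not at h
    refine hz1 (hβ.ext_split hz (fun a ha => ?_) fun b hb => ?_)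
    · rw [MulAut.one_apply]; exact ha
    · rw [h b hb, map_one, map_one]
  obtain ⟨c, hc, hac⟩ := hβ.exists_partner hz hzP ha ha1
  let f : Fin r × Fin r → negS z := fun p =>
    ⟨a ^ (p.1 : ℕ) * c ^ (p.2 : ℕ), mul_mem (pow_mem ha _) (pow_mem hc _)⟩
  have hf : Function.Injective f := fun p q e => by
    obtain ⟨h1, h2⟩ := hβ.pair_inj hac (congrArg Subtype.val e)
    exact Prod.ext h1 h2
  have := Nat.card_le_card_of_injective f hf
  simpa [Nat.card_prod] using this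

/-- An automorphism is `±1` on a plane where its square is trivial. -/
theorem sign {z x : MulAut V} (hz : z * z = 1) (hzP : Pres β z) (hcard : Nat.card (negS z) ≤ r * r)
    (hxP : Pres β x) (hxz : Commute x z) (hxx : ∀ y ∈ negS z, x (x y) = y) :
    (∀ y ∈ negS z, x y = y) ∨ (∀ y ∈ negS z, x y = y⁻¹) := by
  haveI := Fact.mk hβ.prime
  obtain ⟨c0, hc0⟩ := hβ.prime.odd_of_ne_two hβ.odd
  have hsplit : ∀ y ∈ negS z, ∃ p ∈ negS z, ∃ q ∈ negS z, x p = p ∧ x q = q⁻¹ ∧ y = p * q := by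
    intro y hy
    have hxy : x y ∈ negS z := map_negS hxz hy
    refine ⟨(y * x y) ^ (c0 + 1), pow_mem (mul_mem hy hxy) _, (y * (x y)⁻¹) ^ (c0 + 1),
      pow_mem (mul_mem hy (inv_mem hxy)) _, ?_, ?_, ?_⟩
    · rw [map_pow, map_mul, hxx y hy, mul_comm]
    · rw [map_pow, map_mul, map_inv, hxx y hy, ← inv_pow, mul_inv, inv_inv, mul_comm]
    · rw [← mul_pow, mul_mul_mul_comm, mul_inv_cancel, mul_one, ← pow_two, ← pow_mul,
        show 2 * (c0 + 1) = r + 1 by omega, pow_succ, hβ.pow, one_mul]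
  by_contra hcon
  push Not at hcon
  obtain ⟨⟨y₁, hy₁, hn₁⟩, y₂, hy₂, hn₂⟩ := hcon
  obtain ⟨a, ha, hxa, ha1⟩ : ∃ a ∈ negS z, x a = a ∧ a ≠ 1 := by
    obtain ⟨p, hp, q, hq, hxp, hxq, rfl⟩ := hsplit y₂ hy₂
    refine ⟨p, hp, hxp, fun e => hn₂ ?_⟩
    rw [e, one_mul, hxq]
  obtain ⟨d, hd, hxd, hd1⟩ : ∃ d ∈ negS z, x d = d⁻¹ ∧ d ≠ 1 := by
    obtain ⟨p, hp, q, hq, hxp, hxq, rfl⟩ := hsplit y₁ hy₁
    refine ⟨q, hq, hxq, fun e => hn₁ ?_⟩
    rw [e, mul_one, hxp]
  obtain ⟨c', hc', hac'⟩ := hβ.exists_partner hz hzP ha ha1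
  obtain ⟨c, hc, hxc, hac⟩ : ∃ c ∈ negS z, x c = c ∧ β a c ≠ 1 := by
    obtain ⟨p, hp, q, hq, hxp, hxq, rfl⟩ := hsplit c' hc'
    refine ⟨p, hp, hxp, fun e => hac' ?_⟩
    rw [map_mul, e, hβ.orth hxP (a := a) (b := q) hxa hxq, one_mul]
  let f : (Fin r × Fin r) × Fin r → negS z := fun p =>
    ⟨a ^ (p.1.1 : ℕ) * c ^ (p.1.2 : ℕ) * d ^ (p.2 : ℕ),
      mul_mem (mul_mem (pow_mem ha _) (pow_mem hc _)) (pow_mem hd _)⟩
  have hf : Function.Injective f := by
    rintro ⟨⟨i, j⟩, l⟩ ⟨⟨i', j'⟩, l'⟩ e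
    have e1 : a ^ (i : ℕ) * c ^ (j : ℕ) * d ^ (l : ℕ) = a ^ (i' : ℕ) * c ^ (j' : ℕ) * d ^ (l' : ℕ) :=
      congrArg Subtype.val e
    have e2 := congrArg x e1
    simp only [map_mul, map_pow, hxa, hxc, hxd, inv_pow] at e2
    have e3 : d ^ (l : ℕ) = d ^ (l' : ℕ) := by
      have e5 : d ^ (l : ℕ) * d ^ (l : ℕ) = d ^ (l' : ℕ) * d ^ (l' : ℕ) := by
        calc d ^ (l : ℕ) * d ^ (l : ℕ)
            = a ^ (i : ℕ) * c ^ (j : ℕ) * d ^ (l : ℕ) * (a ^ (i : ℕ) * c ^ (j : ℕ) * (d ^ (l : ℕ))⁻¹)⁻¹ := by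
              rw [mul_inv, inv_inv, mul_mul_mul_comm, mul_inv_cancel, one_mul]
          _ = a ^ (i' : ℕ) * c ^ (j' : ℕ) * d ^ (l' : ℕ) *
              (a ^ (i' : ℕ) * c ^ (j' : ℕ) * (d ^ (l' : ℕ))⁻¹)⁻¹ := by rw [e1, e2]
          _ = d ^ (l' : ℕ) * d ^ (l' : ℕ) := by
              rw [mul_inv, inv_inv, mul_mul_mul_comm, mul_inv_cancel, one_mul]
      refine div_eq_one.1 (hβ.eq_one_of_sq ?_)
      rw [div_mul_div_comm, e5, div_self']
    rw [e3] at e1
    obtain ⟨h1, h2⟩ := hβ.pair_inj hac (mul_right_cancel e1)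
    exact Prod.ext (Prod.ext h1 h2) (hβ.pow_inj hd1 e3)
  have h3 := (Nat.card_le_card_of_injective f hf).trans hcard
  simp only [Nat.card_prod, Nat.card_eq_fintype_card, Fintype.card_fin, Fintype.card_prod]  at h3
  have h4 := Nat.mul_le_mul_left (r * r) hβ.prime.two_le
  have h5 := Nat.mul_pos hβ.prime.pos hβ.prime.pos
  omega

/-- An involution is determined by the inverted elements. -/
theorem eq_of_negS {z u : MulAut V} (hz : z * z = 1) (hzP : Pres β z) (hu : u * u = 1) (huP : Pres β u)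
    (h : negS z = negS u) : z = u := by
  refine hβ.ext_split hz (fun a ha => ?_) fun b hb => ?_
  · obtain ⟨p, hp, q, hq, rfl⟩ := hβ.split hu a
    have hq1 : q = 1 := by
      refine hβ.nondeg q fun b => ?_
      obtain ⟨b₁, hb₁, b₂, hb₂, rfl⟩ := hβ.split hu b
      have h1 := hβ.orth hzP ha (h ▸ hb₂ : b₂ ∈ negS z)
      rw [map_mul β, MonoidHom.mul_apply, hβ.orth huP hp hb₂, one_mul] at h1
      rw [map_mul, hβ.orth' huP hb₁ hq, h1, one_mul]
    subst hq1
    rw [mul_one] at ha ⊢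
    rw [mem_fixS.1 ha, mem_fixS.1 hp]
  · rw [mem_negS.1 hb, mem_negS.1 (h ▸ hb : b ∈ negS u)]

/-- Distinct commuting plane involutions have orthogonal planes. -/
theorem negS_le_fixS {z u : MulAut V} (hz : z * z = 1) (hzP : Pres β z) (hu : u * u = 1)
    (huP : Pres β u) (hz1 : z ≠ 1) (hzc : Nat.card (negS z) ≤ r * r)
    (huc : Nat.card (negS u) ≤ r * r) (hzu : Commute z u) (hne : z ≠ u) : negS z ≤ fixS u := by
  rcases hβ.sign hz hzP hzc huP hzu.symm (fun y _ => apply_apply hu y) with h | h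
  · exact h
  · refine absurd (hβ.eq_of_negS hz hzP hu huP ?_) hne
    exact eq_of_le_of_card_ge h (huc.trans (hβ.le_card_negS hz hzP hz1))

/-- Automorphisms supported on orthogonal planes commute. -/
theorem commute_supports {z u b c : MulAut V} (hz : z * z = 1) (hu : u * u = 1) (hzu : Commute z u)
    (h1 : negS z ≤ fixS u) (h2 : negS u ≤ fixS z) (hb : Commute b z) (hc : Commute c u)
    (hbf : ∀ v ∈ fixS z, b v = v) (hcf : ∀ v ∈ fixS u, c v = v) : Commute b c := by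
  refine hβ.ext_split hz (fun a ha => ?_) fun q hq => ?_
  · obtain ⟨p₁, hp₁, p₂, hp₂, rfl⟩ := hβ.split hu a
    have hp₁z : p₁ ∈ fixS z := by
      have := mul_mem ha (inv_mem (h2 hp₂))
      rwa [mul_inv_cancel_right] at this
    rw [map_mul, map_mul, MulAut.mul_apply, MulAut.mul_apply, MulAut.mul_apply, MulAut.mul_apply,
      hcf p₁ hp₁, hbf p₁ hp₁z, hcf p₁ hp₁, hbf p₂ (h2 hp₂), hbf _ (h2 (map_negS hc hp₂))]
  · rw [MulAut.mul_apply, MulAut.mul_apply, hcf q (h1 hq), hcf _ (h1 (map_negS hb hq))]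

/-- An involution moving a plane to an orthogonal one is trivial off both. -/
theorem transposition {s t : MulAut V} (hs : s * s = 1) (hsP : Pres β s) (ht : t * t = 1)
    (hs1 : s ≠ 1) (htc : Nat.card (negS t) ≤ r * r) (h1 : negS s ≤ fixS (t * s * t⁻¹)) {v : V}
    (hv : v ∈ fixS s) (hv' : v ∈ fixS (t * s * t⁻¹)) : t v = v := by
  have htt : ∀ v, t (t v) = v := apply_apply ht
  let f : negS s → negS t := fun y => ⟨(y : V) * (t y)⁻¹, by
    rw [mem_negS, map_mul, map_inv, htt, mul_inv, inv_inv, mul_comm]⟩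
  have hf : Function.Injective f := by
    rintro ⟨y, hy⟩ ⟨y', hy'⟩ e
    have e1 : y * (t y)⁻¹ = y' * (t y')⁻¹ := congrArg Subtype.val e
    refine Subtype.ext (show y = y' from ?_)
    have e2 : y / y' = t (y / y') := by
      rw [map_div, div_eq_div_iff_div_eq_div, div_eq_mul_inv, div_eq_mul_inv]
      exact e1
    have h3 : y / y' ∈ negS s := div_mem hy hy'
    have h4 : y / y' ∈ negS (t * s * t⁻¹) := by rw [e2]; exact conj_negS t s h3
    exact div_eq_one.1 (hβ.inf_eq_bot (h1 h3) h4)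
  have hbij : Function.Bijective f := (Nat.bijective_iff_injective_and_card _).2
    ⟨hf, le_antisymm (Nat.card_le_card_of_injective f hf) (htc.trans (hβ.le_card_negS hs hsP hs1))⟩
  have hd : v⁻¹ * t v ∈ negS t := by
    rw [mem_negS, map_mul, map_inv, htt, mul_inv, inv_inv, mul_comm]
  obtain ⟨⟨y, hy⟩, e⟩ := hbij.2 ⟨_, hd⟩
  have e1 : y * (t y)⁻¹ = v⁻¹ * t v := congrArg Subtype.val e
  have hfix : v⁻¹ * t v ∈ fixS s := by
    refine mul_mem (inv_mem hv) ?_
    have h2 := conj_fixS t⁻¹ _ hv'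
    rwa [show t⁻¹ * (t * s * t⁻¹) * t⁻¹⁻¹ = s by group, inv_eq_of_mul_eq_one_left ht] at h2
  have hty : t y ∈ fixS s := by
    have h2 := conj_fixS t _ (h1 hy)
    rwa [show t * (t * s * t⁻¹) * t⁻¹ = (t * t) * s * (t * t)⁻¹ by group, ht, one_mul, inv_one, mul_one] at h2
  have hyf : y ∈ fixS s := by
    have := mul_mem hfix hty
    rwa [← e1, inv_mul_cancel_right] at this
  rw [hβ.inf_eq_bot hyf hy, map_one, inv_one, one_mul] at e1
  exact (inv_mul_eq_one.1 e1.symm).symm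

end Paired

end CfsgLib.PGroup.ExponentTwo
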