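import Cfsg.Agent.Lib.PGroup.ExponentTwo.Plane
import Cfsg.Agent.Lib.PGroup.GrossTwo.SocleStep

/-!
# Socles with plane support

A socle is an involution inverting at most a plane that is a proper `2`-power of an element of a
`2`-group which is trivial on its fixed elements.  The socles of one `2`-group commute, a set of socles
generates a group of class two whose commutators and squares are central involutions, and we compare
the socle of an element with that of its product with a member of this group.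
-/

set_option autoImplicit false
set_option linter.style.haveILetI false
set_option linter.unusedSectionVars false

open Subgroup
open scoped commutatorElement

namespace CfsgLib.PGroup.ExponentTwo

open CfsgLib.PGroup

universe u v w

/-- In a monomial basis a socle is diagonal. -/
theorem socle_diag {G : Type u} [Group G] {k : Type v} [Field k] {W : Type w} [AddCommGroup W]
    [Module k W] (ρ : G →* Module.End k W) {ι : Type*} (B : Module.Basis ι k W)
    (hB : ∀ g i, ∃ (j : ι) (c : k), ρ g (B i) = c • B j) {b : G} {m : ℕ} (hm : 1 ≤ m)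
    (hb : b ^ 2 ^ (m + 1) = 1) (hfix : ∀ w, ρ (b ^ 2 ^ m) w = w → ρ b w = w) (i : ι) :
    ∃ a : k, ρ (b ^ 2 ^ m) (B i) = a • B i := by
  classical
  obtain ⟨j, a, hz⟩ := hB (b ^ 2 ^ m) i
  obtain ⟨p, a₁, hp⟩ := hB b i
  obtain ⟨q, a₂, hq⟩ := hB b j
  by_cases hij : j = i
  · subst hij
    exact ⟨a, hz⟩
  have hit : ∀ {g : G} {c : k}, ρ g (B i) = c • B i → ∀ n : ℕ, ρ (g ^ n) (B i) = c ^ n • B i := by
    intro g c h n
    induction n with
    | zero => rw [pow_zero, pow_zero, map_one, Module.End.one_apply, one_smul]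
    | succ n ih => rw [pow_succ', rep_mul_apply, ih, map_smul, h, smul_smul, ← pow_succ]
  have ha₁ : a₁ ≠ 0 := fun e => B.ne_zero i (rep_injective ρ b (by rw [hp, e, zero_smul, map_zero]))
  have ha₂ : a₂ ≠ 0 := fun e => B.ne_zero j (rep_injective ρ b (by rw [hq, e, zero_smul, map_zero]))
  have hpq : q ≠ p := by
    rintro rfl
    have h1 : a₂ • B i = a₁ • B j := rep_injective ρ b (by
      rw [map_smul, map_smul, hp, hq, smul_comm])
    have h2 := congrArg (fun w => B.repr w i) h1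
    simp only [map_smul, Module.Basis.repr_self, Finsupp.smul_apply, smul_eq_mul, Finsupp.single_eq_same,
      mul_one, Finsupp.single_eq_of_ne (Ne.symm hij), mul_zero] at h2
    exact ha₂ h2
  have hw : ρ (b ^ 2 ^ m) (B i + a • B j) = B i + a • B j := by
    rw [← hz, map_add, ← rep_mul_apply, ← pow_add, ← two_mul, ← pow_succ', hb, map_one,
      Module.End.one_apply, add_comm]
  have hbw := hfix _ hw
  rw [map_add, map_smul, hp, hq, smul_smul] at hbw
  by_cases hpi : p = i
  · subst hpi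
    exact ⟨_, hit hp _⟩
  have hpj : p = j := by
    by_contra h
    have h1 := congrArg (fun w => B.repr w p) hbw
    simp only [map_add, map_smul, Module.Basis.repr_self, Finsupp.add_apply, Finsupp.smul_apply,
      smul_eq_mul, Finsupp.single_eq_same, Finsupp.single_eq_of_ne hpi, Finsupp.single_eq_of_ne h,
      Finsupp.single_eq_of_ne hpq.symm, mul_one, mul_zero, add_zero] at h1
    exact ha₁ h1
  subst hpj
  have hqi : q = i := by
    by_contra h
    have h1 := congrArg (fun w => B.repr w i) hbw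
    simp only [map_add, map_smul, Module.Basis.repr_self, Finsupp.add_apply, Finsupp.smul_apply,
      smul_eq_mul, Finsupp.single_eq_same, Finsupp.single_eq_of_ne (Ne.symm hij),
      Finsupp.single_eq_of_ne (Ne.symm h), mul_one, mul_zero, add_zero] at h1
    exact zero_ne_one h1
  subst hqi
  have h2 : ρ (b ^ 2) (B q) = (a₁ * a₂) • B q := by
    rw [pow_two, rep_mul_apply, hp, map_smul, hq, smul_smul]
  refine ⟨(a₁ * a₂) ^ 2 ^ (m - 1), ?_⟩
  have h3 := hit h2 (2 ^ (m - 1))
  rwa [← pow_mul, ← pow_succ', show m - 1 + 1 = m by omega] at h3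

variable {V : Type u} [CommGroup V]

/-- A socle of the group `P`. -/
structure Sock {A : Type v} [CommGroup A] (β : V →* V →* A) (r : ℕ) (P : Subgroup (MulAut V))
    (z : MulAut V) : Prop where
  two : IsPGroup 2 P
  pres : ∀ g ∈ P, Pres β g
  ne_one : z ≠ 1
  inv : z * z = 1
  card : Nat.card (negS z) ≤ r * r
  witness : ∃ b ∈ P, ∃ m, 1 ≤ m ∧ b ^ 2 ^ m = z ∧ ∀ v ∈ fixS z, b v = v

variable {A : Type v} [CommGroup A] {β : V →* V →* A} {r : ℕ} {P : Subgroup (MulAut V)} {z u : MulAut V}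

theorem Sock.mem (h : Sock β r P z) : z ∈ P := by
  obtain ⟨b, hb, m, -, rfl, -⟩ := h.witness
  exact pow_mem hb _

theorem Sock.pres_self (h : Sock β r P z) : Pres β z := h.pres z h.mem

theorem Sock.conj (h : Sock β r P z) {g : MulAut V} (hg : g ∈ P) : Sock β r P (g * z * g⁻¹) where
  two := h.two
  pres := h.pres
  ne_one := fun e => h.ne_one (conj_eq_one_iff.1 e)
  inv := by rw [conj_mul, h.inv, mul_one, mul_inv_cancel]
  card := (card_negS_conj g z).trans_le h.card
  witness := by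
    obtain ⟨b, hb, m, hm, rfl, hfix⟩ := h.witness
    refine ⟨g * b * g⁻¹, mul_mem (mul_mem hg hb) (inv_mem hg), m, hm, conj_pow, fun v hv => ?_⟩
    have h1 := conj_fixS g⁻¹ _ hv
    rw [show g⁻¹ * (g * b ^ 2 ^ m * g⁻¹) * g⁻¹⁻¹ = b ^ 2 ^ m by group] at h1
    rw [MulAut.mul_apply, MulAut.mul_apply, hfix _ h1, MulAut.apply_inv_self]

/-- The socles of a `2`-group commute. -/
theorem comm_socks [Finite V] (hβ : Paired r β) (hz : Sock β r P z) (hu : Sock β r P u) :
    Commute z u := by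
  classical
  haveI := Fact.mk hβ.prime
  let k := AlgebraicClosure (ZMod r)
  haveI : CharP k r := charP_of_injective_algebraMap (algebraMap (ZMod r) k).injective r
  obtain ⟨hfd, -⟩ := finrank_addHom (V := V) hβ.pow k
  have h2k : (2 : k) ≠ 0 := fun e => hβ.odd ((Nat.prime_dvd_prime_iff_eq hβ.prime Nat.prime_two).1
    ((CharP.cast_eq_zero_iff k r 2).1 (by exact_mod_cast e)))
  let ρ : P →* Module.End k (Additive V →+ k) := (dRep k (MonoidHom.id (MulAut V))).comp P.subtype
  have hρ : ∀ (x : P) (f : Additive V →+ k) (v : V),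
      ρ x f (Additive.ofMul v) = f (Additive.ofMul ((x : MulAut V)⁻¹ v)) := fun x f v => rfl
  have hinj : Function.Injective ρ := by
    intro x y e
    have e' : dRep k (MonoidHom.id (MulAut V)) (x : MulAut V) =
        dRep k (MonoidHom.id (MulAut V)) (y : MulAut V) := e
    have h : dRep k (MonoidHom.id (MulAut V)) ((x : MulAut V)⁻¹ * (y : MulAut V)) = 1 := by
      rw [map_mul, ← e', ← map_mul, inv_mul_cancel, map_one]
    exact Subtype.ext (inv_mul_eq_one.1 (eq_one_of_dRep (l := r) hβ.pow (MonoidHom.id (MulAut V)) h))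
  obtain ⟨d, B, hB⟩ := GrossTwo.exists_monomial_basis ρ hz.two (p := 2) (by exact_mod_cast h2k)
  have diag : ∀ {y : MulAut V} (hy : Sock β r P y) (i : Fin d),
      ∃ a : k, ρ ⟨y, hy.mem⟩ (B i) = a • B i := by
    intro y hy i
    obtain ⟨b, hb, m, hm, hby, hfix⟩ := hy.witness
    have hpow : (⟨b, hb⟩ : P) ^ 2 ^ m = ⟨y, hy.mem⟩ := Subtype.ext hby
    rw [← hpow]
    refine socle_diag ρ B hB hm (Subtype.ext (by
      rw [SubgroupClass.coe_pow, OneMemClass.coe_one, pow_succ, pow_mul, hby, pow_two, hy.inv])) ?_ i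
    intro f hf
    refine AddMonoidHom.ext fun v => ?_
    induction v using Additive.rec with
    | _ v =>
    show ρ ⟨b, hb⟩ f (Additive.ofMul v) = f (Additive.ofMul v)
    rw [hρ]
    have hyi : y⁻¹ = y := inv_eq_of_mul_eq_one_left hy.inv
    have hfy : ∀ x, f (Additive.ofMul (y x)) = f (Additive.ofMul x) := fun x => by
      have h1 := DFunLike.congr_fun hf (Additive.ofMul x)
      rwa [hρ, hpow, hyi] at h1
    have hby' : Commute b⁻¹ y := hby ▸ (Commute.refl b).inv_left.pow_right _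
    have h0 : v * y v ∈ fixS y := by rw [mem_fixS, map_mul, apply_apply hy.inv, mul_comm]
    have h2 : b⁻¹ (v * y v) = v * y v := by
      conv_lhs => rw [← hfix _ h0]
      exact MulAut.inv_apply_self _ b _
    have h3 := congrArg (fun x => f (Additive.ofMul x)) h2
    simp only [map_mul, comm_apply hby', ofMul_mul, map_add, hfy, ← two_mul] at h3
    exact mul_left_cancel₀ h2k h3
  refine congrArg Subtype.val (show (⟨z, hz.mem⟩ : P) * ⟨u, hu.mem⟩ = ⟨u, hu.mem⟩ * ⟨z, hz.mem⟩ from
    hinj (B.ext fun i => ?_))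
  obtain ⟨a, ha⟩ := diag hz i
  obtain ⟨c, hc⟩ := diag hu i
  rw [rep_mul_apply, rep_mul_apply, ha, hc, map_smul, map_smul, ha, hc, smul_comm]

namespace Paired

variable [Finite V] (hβ : Paired r β)
include hβ

/-- An automorphism that is `±1` on the plane commutes with those living there. -/
theorem comm_of_sign {z h x : MulAut V} (hz : z * z = 1) (hzP : Pres β z)
    (hcard : Nat.card (negS z) ≤ r * r) (hfix : ∀ v ∈ fixS z, h v = v) (hhz : Commute h z)
    (hxP : Pres β x) (hxz : Commute x z) (hxx : ∀ y ∈ negS z, x (x y) = y) : Commute h x := by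
  refine hβ.ext_split hz (fun a ha => ?_) fun q hq => ?_
  · rw [MulAut.mul_apply, MulAut.mul_apply, hfix a ha, hfix _ (map_fixS hxz ha)]
  · rw [MulAut.mul_apply, MulAut.mul_apply]
    rcases hβ.sign hz hzP hcard hxP hxz hxx with h1 | h1
    · rw [h1 q hq, h1 _ (map_negS hhz hq)]
    · rw [h1 q hq, h1 _ (map_negS hhz hq), map_inv]

/-- Plane involutions in a `2`-group do not act as a three-cycle on planes. -/
theorem no_three (hP : IsPGroup 2 P) {s t u : MulAut V} (hs : s * s = 1) (hsP : Pres β s) (hs1 : s ≠ 1)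
    (hsc : Nat.card (negS s) ≤ r * r) (ht : t * t = 1) (htP : Pres β t) (htc : Nat.card (negS t) ≤ r * r)
    (hu : u * u = 1) (huP : Pres β u) (huc : Nat.card (negS u) ≤ r * r) (htm : t ∈ P) (hum : u ∈ P)
    (c1 : Commute s (t * s * t⁻¹)) (c2 : Commute s (u * s * u⁻¹))
    (c3 : Commute (t * s * t⁻¹) (u * s * u⁻¹)) (n1 : t * s * t⁻¹ ≠ s) (n2 : u * s * u⁻¹ ≠ s)
    (n3 : t * s * t⁻¹ ≠ u * s * u⁻¹) : False := by
  have dat : ∀ g : MulAut V, Pres β g → (g * s * g⁻¹) * (g * s * g⁻¹) = 1 ∧ Pres β (g * s * g⁻¹) ∧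
      g * s * g⁻¹ ≠ 1 ∧ Nat.card (negS (g * s * g⁻¹)) ≤ r * r := fun g hg =>
    ⟨by rw [conj_mul, hs, mul_one, mul_inv_cancel], (hg.mul hsP).mul hg.inv,
      fun e => hs1 (conj_eq_one_iff.1 e), (card_negS_conj g s).trans_le hsc⟩
  have keep : ∀ {a b : MulAut V}, a * a = 1 → Pres β a → Nat.card (negS a) ≤ r * r → Pres β b →
      Commute s (a * s * a⁻¹) → Commute s (b * s * b⁻¹) → Commute (a * s * a⁻¹) (b * s * b⁻¹) →
      a * s * a⁻¹ ≠ s → b * s * b⁻¹ ≠ s → a * s * a⁻¹ ≠ b * s * b⁻¹ →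
      a * (b * s * b⁻¹) * a⁻¹ = b * s * b⁻¹ := by
    intro a b ha haP hac hbP d1 d2 d3 m1 m2 m3
    obtain ⟨i1, p1, o1, k1⟩ := dat a haP
    obtain ⟨i2, p2, o2, k2⟩ := dat b hbP
    have h1 := hβ.negS_le_fixS hs hsP i1 p1 hs1 hsc k1 d1 m1.symm
    have h21 := hβ.negS_le_fixS i2 p2 hs hsP o2 k2 hsc d2.symm m2
    have h22 := hβ.negS_le_fixS i2 p2 i1 p1 o2 k2 k1 d3.symm m3.symm
    refine (hβ.eq_of_negS i2 p2 (by rw [conj_mul, i2, mul_one, mul_inv_cancel])
      ((haP.mul p2).mul haP.inv) ?_).symm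
    refine eq_of_le_of_card_ge (fun v hv => ?_) (card_negS_conj a _).le
    have h := conj_negS a _ hv
    rwa [hβ.transposition hs hsP ha hs1 hac h1 (h21 hv) (h22 hv)] at h
  have e1 := keep ht htP htc huP c1 c2 c3 n1 n2 n3
  have e2 := keep hu huP huc htP c2 c1 c3.symm n2 n1 n3.symm
  have hti : t⁻¹ = t := inv_eq_of_mul_eq_one_left ht
  have hui : u⁻¹ = u := inv_eq_of_mul_eq_one_left hu
  set g := t * u with hg
  have g1 : g * s * g⁻¹ = u * s * u⁻¹ := by
    rw [hg, show t * u * s * (t * u)⁻¹ = t * (u * s * u⁻¹) * t⁻¹ by group, e1]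
  have hss : u * (u * s * u⁻¹) * u⁻¹ = s := by
    rw [show u * (u * s * u⁻¹) * u⁻¹ = (u * u) * s * (u * u)⁻¹ by group, hu, one_mul, inv_one, mul_one]
  have g2 : g * (u * s * u⁻¹) * g⁻¹ = t * s * t⁻¹ := by
    rw [hg, show t * u * (u * s * u⁻¹) * (t * u)⁻¹ = t * (u * (u * s * u⁻¹) * u⁻¹) * t⁻¹ by group, hss]
  have g3 : g * (t * s * t⁻¹) * g⁻¹ = s := by
    rw [hg, show t * u * (t * s * t⁻¹) * (t * u)⁻¹ = t * (u * (t * s * t⁻¹) * u⁻¹) * t⁻¹ by group, e2,
      show t * (t * s * t⁻¹) * t⁻¹ = (t * t) * s * (t * t)⁻¹ by group, ht, one_mul, inv_one, mul_one]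
  have h3 : Commute (g ^ 3) s := by
    refine mul_inv_eq_iff_eq_mul.1 ?_
    rw [show g ^ 3 * s * (g ^ 3)⁻¹ = g * (g * (g * s * g⁻¹) * g⁻¹) * g⁻¹ by
      simp only [pow_succ, pow_zero, one_mul, mul_inv_rev, mul_assoc], g1, g2, g3]
  obtain ⟨i, hi⟩ := hP ⟨g, mul_mem htm hum⟩
  have hco : (orderOf g).Coprime 3 := Nat.Coprime.coprime_dvd_left
    (orderOf_dvd_of_pow_eq_one (congrArg Subtype.val hi)) (Nat.Coprime.pow_left i (by norm_num))
  obtain ⟨j, hj⟩ := exists_pow_eq_self_of_coprime (x := g) hco.symm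
  have h4 : Commute g s := hj ▸ h3.pow_left j
  exact n2 (by rw [← g1, h4.eq, mul_inv_cancel_right])

end Paired

end CfsgLib.PGroup.ExponentTwo
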