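import Cfsg.Agent.Lib.PGroup.ExponentTwo.Socles

/-!
# The group spanned by socles

When every member of a set of involutions is trivial or a socle of some `2`-group containing all of
them, the generated group has commutators and squares among its central involutions.  Multiplying an
element by a member of that group changes its socle by a central element.
-/

set_option autoImplicit false
set_option linter.style.haveILetI false
set_option linter.unusedSectionVars false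

open Subgroup
open scoped commutatorElement

namespace CfsgLib.PGroup.ExponentTwo

universe u v

section Omega

variable {G : Type u} [Group G]

/-- The central involutions of a subgroup. -/
def omega (E : Subgroup G) : Subgroup G where
  carrier := {c | c ∈ E ∧ c * c = 1 ∧ ∀ e ∈ E, Commute e c}
  one_mem' := ⟨one_mem _, mul_one 1, fun e _ => Commute.one_right e⟩
  mul_mem' := fun {a b} ha hb => ⟨mul_mem ha.1 hb.1, by
    rw [mul_assoc, ← mul_assoc b a b, (ha.2.2 b hb.1).eq, mul_assoc a b b, hb.2.1, mul_one, ha.2.1],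
    fun e he => (ha.2.2 e he).mul_right (hb.2.2 e he)⟩
  inv_mem' := fun {a} ha => ⟨inv_mem ha.1, by rw [← mul_inv_rev, ha.2.1, inv_one],
    fun e he => (ha.2.2 e he).inv_right⟩

theorem mem_omega {E : Subgroup G} {c : G} :
    c ∈ omega E ↔ c ∈ E ∧ c * c = 1 ∧ ∀ e ∈ E, Commute e c := Iff.rfl

theorem omega_normal_conj {E : Subgroup G} {c e : G} (hc : c ∈ omega E) (he : e ∈ E) :
    e * c * e⁻¹ = c := mul_inv_eq_iff_eq_mul.2 (hc.2.2 e he).eq

theorem omega_of_gen {𝒮 : Set G} (hsq : ∀ σ ∈ 𝒮, σ * σ = 1)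
    (hc : ∀ σ ∈ 𝒮, ∀ τ ∈ 𝒮, ⁅σ, τ⁆ * ⁅σ, τ⁆ = 1 ∧ ∀ υ ∈ 𝒮, Commute υ ⁅σ, τ⁆) :
    ∀ a ∈ closure 𝒮, (∀ b ∈ closure 𝒮, ⁅a, b⁆ ∈ omega (closure 𝒮)) ∧ a * a ∈ omega (closure 𝒮) := by
  set E := closure 𝒮 with hE
  have hsub : ∀ {x}, x ∈ 𝒮 → x ∈ E := fun hx => subset_closure hx
  have hgen : ∀ σ ∈ 𝒮, ∀ b ∈ E, ⁅σ, b⁆ ∈ omega E := by
    intro σ hσ b hb
    induction hb using closure_induction with
    | mem τ hτ =>
      refine ⟨?_, (hc σ hσ τ hτ).1, fun e he => ?_⟩
      · rw [commutatorElement_def]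
        exact mul_mem (mul_mem (mul_mem (hsub hσ) (hsub hτ)) (inv_mem (hsub hσ))) (inv_mem (hsub hτ))
      · induction he using closure_induction with
        | mem υ hυ => exact (hc σ hσ τ hτ).2 υ hυ
        | one => exact Commute.one_left _
        | mul x y _ _ hx hy => exact hx.mul_left hy
        | inv x _ hx => exact hx.inv_left
    | one => rw [commutatorElement_one_right]; exact one_mem _
    | mul x y hx _ ihx ihy =>
      rw [show ⁅σ, x * y⁆ = ⁅σ, x⁆ * (x * ⁅σ, y⁆ * x⁻¹) by simp only [commutatorElement_def]; group,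
        omega_normal_conj ihy hx]
      exact mul_mem ihx ihy
    | inv x hx ih =>
      rw [show ⁅σ, x⁻¹⁆ = x⁻¹ * ⁅σ, x⁆⁻¹ * x⁻¹⁻¹ by simp only [commutatorElement_def]; group,
        omega_normal_conj (inv_mem ih) (inv_mem hx)]
      exact inv_mem ih
  have hcomm : ∀ a ∈ E, ∀ b ∈ E, ⁅a, b⁆ ∈ omega E := by
    intro a ha b hb
    induction ha using closure_induction with
    | mem σ hσ => exact hgen σ hσ b hb
    | one => rw [commutatorElement_one_left]; exact one_mem _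
    | mul x y hx _ ihx ihy =>
      rw [show ⁅x * y, b⁆ = x * ⁅y, b⁆ * x⁻¹ * ⁅x, b⁆ by simp only [commutatorElement_def]; group,
        omega_normal_conj ihy hx]
      exact mul_mem ihy ihx
    | inv x hx ih =>
      rw [show ⁅x⁻¹, b⁆ = x⁻¹ * ⁅x, b⁆⁻¹ * x⁻¹⁻¹ by simp only [commutatorElement_def]; group,
        omega_normal_conj (inv_mem ih) (inv_mem hx)]
      exact inv_mem ih
  intro a ha
  refine ⟨hcomm a ha, ?_⟩
  induction ha using closure_induction with
  | mem σ hσ => rw [hsq σ hσ]; exact one_mem _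
  | one => rw [mul_one]; exact one_mem _
  | mul x y hx hy ihx ihy =>
    rw [show x * y * (x * y) = x * x * ⁅x⁻¹, y⁆ * (y * y) by simp only [commutatorElement_def]; group]
    exact mul_mem (mul_mem ihx (hcomm _ (inv_mem hx) _ hy)) ihy
  | inv x _ ih => rw [← mul_inv_rev]; exact inv_mem ih

end Omega

variable {V : Type u} [CommGroup V] [Finite V] {A : Type v} [CommGroup A] {β : V →* V →* A} {r : ℕ}

/-- Every member is trivial or a socle of a `2`-group containing all members. -/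
def SockSet (β : V →* V →* A) (r : ℕ) (𝒮 : Set (MulAut V)) : Prop :=
  ∀ σ ∈ 𝒮, σ = 1 ∨ ∃ P : Subgroup (MulAut V), closure 𝒮 ≤ P ∧ Sock β r P σ

variable {𝒮 : Set (MulAut V)}

theorem SockSet.sq (hS : SockSet β r 𝒮) {σ : MulAut V} (hσ : σ ∈ 𝒮) : σ * σ = 1 := by
  rcases hS σ hσ with rfl | ⟨P, -, h⟩
  exacts [one_mul 1, h.inv]

theorem SockSet.pres (hS : SockSet β r 𝒮) {x : MulAut V} (hx : x ∈ closure 𝒮) : Pres β x := by
  induction hx using closure_induction with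
  | mem σ hσ =>
    rcases hS σ hσ with rfl | ⟨P, -, h⟩
    exacts [fun _ _ => rfl, h.pres_self]
  | one => exact fun _ _ => rfl
  | mul x y _ _ hx hy => exact hx.mul hy
  | inv x _ hx => exact hx.inv

variable (hβ : Paired r β) (hS : SockSet β r 𝒮)
include hβ hS

theorem SockSet.comm_conj {σ : MulAut V} (hσ : σ ∈ 𝒮) {e e' : MulAut V} (he : e ∈ closure 𝒮)
    (he' : e' ∈ closure 𝒮) : Commute (e * σ * e⁻¹) (e' * σ * e'⁻¹) := by
  rcases hS σ hσ with rfl | ⟨P, hle, h⟩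
  · simp
  · exact comm_socks hβ (h.conj (hle he)) (h.conj (hle he'))

/-- Commutators and squares are central involutions. -/
theorem SockSet.omega_mem {a : MulAut V} (ha : a ∈ closure 𝒮) :
    (∀ b ∈ closure 𝒮, ⁅a, b⁆ ∈ omega (closure 𝒮)) ∧ a * a ∈ omega (closure 𝒮) := by
  refine omega_of_gen (fun σ hσ => hS.sq hσ) (fun σ hσ τ hτ => ?_) a ha
  rcases hS σ hσ with rfl | ⟨P, hle, hs⟩
  · rw [commutatorElement_one_left]
    exact ⟨mul_one 1, fun υ _ => Commute.one_right υ⟩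
  rcases hS τ hτ with rfl | ⟨Q, -, ht⟩
  · rw [commutatorElement_one_right]
    exact ⟨mul_one 1, fun υ _ => Commute.one_right υ⟩
  have hm : ∀ {x}, x ∈ 𝒮 → x ∈ closure 𝒮 := fun hx => subset_closure hx
  have hτi : τ⁻¹ = τ := inv_eq_of_mul_eq_one_left ht.inv
  have hσi : σ⁻¹ = σ := inv_eq_of_mul_eq_one_left hs.inv
  set σ₁ := τ * σ * τ⁻¹ with hσ₁
  have hc : ⁅σ, τ⁆ = σ * σ₁ := by rw [commutatorElement_def, hσi, hσ₁]; group
  have hss₁ : Commute σ σ₁ := by simpa using hS.comm_conj hβ hσ (one_mem _) (hm hτ)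
  have hi₁ : σ₁ * σ₁ = 1 := (hs.conj (hle (hm hτ))).inv
  refine ⟨?_, fun υ hυ => ?_⟩
  · rw [hc, mul_assoc, ← mul_assoc σ₁, ← hss₁.eq, mul_assoc σ, hi₁, mul_one, hs.inv]
  rcases hS υ hυ with rfl | ⟨R, -, hu⟩
  · exact Commute.one_left _
  have hυi : υ⁻¹ = υ := inv_eq_of_mul_eq_one_left hu.inv
  refine mul_inv_eq_iff_eq_mul.1 ?_
  rw [hc, ← conj_mul]
  have hττ : τ * σ₁ * τ⁻¹ = σ := by
    rw [hσ₁, show τ * (τ * σ * τ⁻¹) * τ⁻¹ = (τ * τ) * σ * (τ * τ)⁻¹ by group, ht.inv, one_mul, inv_one,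
      mul_one]
  have hυυ : ∀ x, υ * (υ * x * υ⁻¹) * υ⁻¹ = x := fun x => by
    rw [show υ * (υ * x * υ⁻¹) * υ⁻¹ = (υ * υ) * x * (υ * υ)⁻¹ by group, hu.inv, one_mul, inv_one, mul_one]
  by_cases hne : σ₁ = σ
  · rw [hne, conj_mul, hs.inv, mul_one, mul_inv_cancel]
  by_cases h1 : υ * σ * υ⁻¹ = σ
  · rw [h1]
    by_cases h2 : υ * σ₁ * υ⁻¹ = σ₁
    · rw [h2]
    have h2' : υ * σ₁ * υ⁻¹ ≠ σ := fun e => hne (by
      have := congrArg (fun x => υ * x * υ⁻¹) e
      simp only [hυυ, h1] at this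
      exact this)
    have e12 : Commute σ (υ * σ₁ * υ⁻¹) := by
      have := hS.comm_conj hβ hσ (one_mem _) (mul_mem (hm hυ) (hm hτ))
      simpa [hσ₁, mul_assoc] using this
    have e22 : Commute σ₁ (υ * σ₁ * υ⁻¹) := by
      have := hS.comm_conj hβ hσ (hm hτ) (mul_mem (hm hυ) (hm hτ))
      simpa [hσ₁, mul_assoc] using this
    have hs₁ := hs.conj (hle (hm hτ))
    refine (hβ.no_three hs.two hi₁ hs₁.pres_self hs₁.ne_one hs₁.card ht.inv ht.pres_self ht.card hu.inv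
      hu.pres_self hu.card (hle (hm hτ)) (hle (hm hυ)) ?_ e22 ?_ ?_ h2 ?_).elim
    all_goals rw [hττ]
    · exact hss₁.symm
    · exact e12
    · exact Ne.symm hne
    · exact h2'.symm
  · by_cases h2 : υ * σ * υ⁻¹ = σ₁
    · rw [h2, show υ * σ₁ * υ⁻¹ = σ by rw [← h2, hυυ], hss₁.eq]
    refine (hβ.no_three hs.two hs.inv hs.pres_self hs.ne_one hs.card ht.inv ht.pres_self ht.card hu.inv
      hu.pres_self hu.card (hle (hm hτ)) (hle (hm hυ)) hss₁ ?_ ?_ hne h1 (Ne.symm h2)).elim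
    · simpa using hS.comm_conj hβ hσ (one_mem _) (hm hυ)
    · exact hS.comm_conj hβ hσ (hm hτ) (hm hυ)

/-- The socle of a product with a member, when a socle is moved. -/
theorem SockSet.move {h M τ : MulAut V} {m : ℕ} (hm : 1 ≤ m) (hzS : h ^ 2 ^ m ∈ 𝒮)
    (hfix : ∀ v ∈ fixS (h ^ 2 ^ m), h v = v) (hnorm : ∀ e ∈ closure 𝒮, h * e * h⁻¹ ∈ closure 𝒮)
    (hM : M ∈ closure 𝒮) (hord : (h * M) ^ 2 ^ (m + 1) = 1)
    (hz' : (h * M) ^ 2 ^ m = 1 ∨ Nat.card (negS ((h * M) ^ 2 ^ m)) ≤ r * r) (hτ : τ ∈ 𝒮)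
    (hmove : ¬ Commute τ (h ^ 2 ^ m)) : ∀ e ∈ closure 𝒮, Commute e ((h * M) ^ 2 ^ m * h ^ 2 ^ m) := by
  set E := closure 𝒮 with hE
  set z := h ^ 2 ^ m with hz
  obtain ⟨P, hle, hs⟩ : ∃ P : Subgroup (MulAut V), closure 𝒮 ≤ P ∧ Sock β r P z :=
    (hS z hzS).resolve_left fun e => hmove (e ▸ Commute.one_right τ)
  have hzE : z ∈ E := subset_closure hzS
  have hτE : τ ∈ E := subset_closure hτ
  have hzi : z⁻¹ = z := inv_eq_of_mul_eq_one_left hs.inv
  have hhz : Commute h z := Commute.self_pow h _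
  set z₁ := τ * z * τ⁻¹ with hz₁
  have hs₁ := hs.conj (hle hτE)
  have hne : z₁ ≠ z := fun e => hmove (mul_inv_eq_iff_eq_mul.1 e)
  have hzz₁ : Commute z z₁ := by simpa using hS.comm_conj hβ hzS (one_mem _) hτE
  have hc : z * z₁ ∈ omega E := by
    have h1 := (hS.omega_mem hβ hzE).1 τ hτE
    rwa [commutatorElement_def, hzi, show z * τ * z * τ⁻¹ = z * (τ * z * τ⁻¹) by group] at h1
  have horth := hβ.negS_le_fixS hs.inv hs.pres_self hs₁.inv hs₁.pres_self hs.ne_one hs.card hs₁.card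
    hzz₁ hne.symm
  have horth₁ := hβ.negS_le_fixS hs₁.inv hs₁.pres_self hs.inv hs.pres_self hs₁.ne_one hs₁.card hs.card
    hzz₁.symm hne
  have hsquare : ∀ {x}, x ∈ E → x * x ∈ omega E := fun hx => (hS.omega_mem hβ hx).2
  have hMM := hsquare hM
  have hhMM : Commute h (M * M) := hβ.comm_of_sign hs.inv hs.pres_self hs.card hfix hhz
    (hS.pres hMM.1) (hMM.2.2 z hzE).symm
    (fun y _ => by rw [← MulAut.mul_apply, hMM.2.1, MulAut.one_apply])
  set z₂ := M * z * M⁻¹ with hz₂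
  have hs₂ := hs.conj (hle hM)
  by_cases hfixed : z₂ = z
  swap
  · exfalso
    have hz₂₁ : z₂ = z₁ := by
      by_contra hne₂
      have c0 : Commute z₂ z := by simpa using hS.comm_conj hβ hzS hM (one_mem _)
      have c1 : Commute z₂ z₁ := hS.comm_conj hβ hzS hM hτE
      have o1 := hβ.negS_le_fixS hs₂.inv hs₂.pres_self hs.inv hs.pres_self hs₂.ne_one hs₂.card hs.card c0
        hfixed
      have o2 := hβ.negS_le_fixS hs₂.inv hs₂.pres_self hs₁.inv hs₁.pres_self hs₂.ne_one hs₂.card hs₁.card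
        c1 hne₂
      have hall : ∀ v ∈ negS z₂, v = 1 := fun v hv => by
        have h1 : (z * z₁) v = v := by
          rw [MulAut.mul_apply, mem_fixS.1 (o2 hv), mem_fixS.1 (o1 hv)]
        have h2 : z₂ * (M * z₁ * M⁻¹) = z * z₁ := by rw [hz₂, conj_mul, omega_normal_conj hc hM]
        rw [← h2, MulAut.mul_apply] at h1
        have h3 : M⁻¹ v ∈ negS z := by
          rw [← conj_negS_iff M z, MulAut.apply_inv_self]
          exact hv
        have h4 := conj_fixS M z₁ (horth h3)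
        rw [MulAut.apply_inv_self] at h4
        rw [mem_fixS.1 h4] at h1
        exact hβ.inf_eq_bot (g := z₂) h1 hv
      have hbot : negS z₂ = ⊥ := (eq_bot_iff_forall _).2 hall
      have h5 := hβ.le_card_negS hs₂.inv hs₂.pres_self hs₂.ne_one
      rw [hbot, Nat.card_eq_one_iff_unique.2 ⟨inferInstance, inferInstance⟩] at h5
      nlinarith [hβ.prime.two_le]
    set h₁ := M * h * M⁻¹ with hh₁
    have hfix₁ : ∀ v ∈ fixS z₁, h₁ v = v := fun v hv => by
      rw [← hz₂₁] at hv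
      have h1 := conj_fixS M⁻¹ _ hv
      rw [hz₂, show M⁻¹ * (M * z * M⁻¹) * M⁻¹⁻¹ = z by group] at h1
      rw [hh₁, MulAut.mul_apply, MulAut.mul_apply, hfix _ h1, MulAut.apply_inv_self]
    have hh₁z : Commute h₁ z₁ := hz₂₁ ▸ hhz.conj M
    have hhh₁ : Commute h h₁ :=
      hβ.commute_supports hs.inv hs₁.inv hzz₁ horth horth₁ hhz hh₁z hfix hfix₁
    have hh₁MM : Commute h₁ (M * M) := hβ.comm_of_sign hs₁.inv hs₁.pres_self hs₁.card hfix₁ hh₁z
      (hS.pres hMM.1) (hMM.2.2 _ (mul_mem (mul_mem hτE hzE) (inv_mem hτE))).symm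
      (fun y _ => by rw [← MulAut.mul_apply, hMM.2.1, MulAut.one_apply])
    have hsq : (h * M) * (h * M) = h * h₁ * (M * M) := by rw [hh₁]; group
    have hpow2 : (M * M) ^ 2 ^ m = 1 := by
      rw [show m = m - 1 + 1 by omega, pow_succ', pow_mul, pow_two, hMM.2.1, one_pow]
    have hh₁m : h₁ ^ 2 ^ m = z₁ := by rw [hh₁, conj_pow, ← hz, ← hz₂₁]
    rw [pow_succ', pow_mul, pow_two, hsq, (hhMM.mul_left hh₁MM).mul_pow, hhh₁.mul_pow, hpow2, hh₁m,
      mul_one] at hord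
    exact hne (by rw [← mul_eq_one_iff_inv_eq.1 hord, hzi])
  -- `M` fixes the moved socle
  have hMz : Commute M z := mul_inv_eq_iff_eq_mul.1 hfixed
  set w := h * M * h⁻¹ * M⁻¹ with hw
  have hwE : w ∈ E := mul_mem (hnorm M hM) (inv_mem hM)
  have hwfix : ∀ v ∈ fixS z, w v = v := fun v hv => by
    have h1 := map_fixS hMz.inv_left hv
    have h2 : h⁻¹ (M⁻¹ v) = M⁻¹ v := by
      conv_lhs => rw [← hfix _ h1]
      exact MulAut.inv_apply_self _ h _
    rw [hw, MulAut.mul_apply, MulAut.mul_apply, MulAut.mul_apply, h2, MulAut.apply_inv_self, hfix v hv]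
  have hwz : Commute w z := ((hhz.mul_left hMz).mul_left hhz.inv_left).mul_left hMz.inv_left
  have hwneg : ∀ y ∈ negS z, ⁅w, τ⁆ y = w y := fun y hy => by
    have h1 : τ⁻¹ y ∈ fixS z := by
      have h2 := conj_fixS τ⁻¹ _ (horth hy)
      rwa [show τ⁻¹ * (τ * z * τ⁻¹) * τ⁻¹⁻¹ = z by group] at h2
    have h2 : w⁻¹ (τ⁻¹ y) = τ⁻¹ y := by
      conv_lhs => rw [← hwfix _ h1]
      exact MulAut.inv_apply_self _ w _
    rw [commutatorElement_def, MulAut.mul_apply, MulAut.mul_apply, MulAut.mul_apply, h2,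
      MulAut.apply_inv_self]
  have hww : ∀ y ∈ negS z, w (w y) = y := fun y hy => by
    rw [← hwneg _ (map_negS hwz hy), ← hwneg y hy, ← MulAut.mul_apply,
      ((hS.omega_mem hβ hwE).1 τ hτE).2.1, MulAut.one_apply]
  rcases hβ.sign hs.inv hs.pres_self hs.card (hS.pres hwE) hwz hww with hw1 | hw1
  · have hhM : Commute h M := by
      have h1 : w = 1 := hβ.ext_split hs.inv (fun a ha => by rw [hwfix a ha, MulAut.one_apply])
        (fun b hb => by rw [hw1 b hb, MulAut.one_apply])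
      rw [hw, mul_inv_eq_one, mul_inv_eq_iff_eq_mul] at h1
      exact h1
    have h2 : (h * M) ^ 2 ^ m * z = (M * M) ^ 2 ^ (m - 1) := by
      rw [hhM.mul_pow, ← hz, mul_assoc, (hMz.pow_left (2 ^ m)).eq, ← mul_assoc, hs.inv, one_mul,
        show m = m - 1 + 1 by omega, pow_succ', pow_mul, pow_two, Nat.add_sub_cancel]
    rw [h2]
    exact (pow_mem hMM (2 ^ (m - 1))).2.2
  have hwz1 : w = z := hβ.ext_split hs.inv (fun a ha => by rw [hwfix a ha, mem_fixS.1 ha])
    (fun b hb => by rw [hw1 b hb, mem_negS.1 hb])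
  have hhM : h * M = z * M * h := by
    rw [hw, mul_inv_eq_iff_eq_mul, mul_inv_eq_iff_eq_mul] at hwz1
    exact hwz1
  have hsq : (h * M) * (h * M) = z * (h * h) * (M * M) := by
    have hMh : M * h = z * h * M := by
      rw [mul_assoc z h M, hhM, ← mul_assoc, ← mul_assoc, hs.inv, one_mul]
    calc h * M * (h * M) = h * (M * h) * M := by group
      _ = h * (z * h * M) * M := by rw [hMh]
      _ = (h * z) * h * (M * M) := by group
      _ = z * (h * h) * (M * M) := by rw [hhz.eq, mul_assoc z h h]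
  have hcz : Commute (M * M) z := (hMM.2.2 z hzE).symm
  have hz'eq : (h * M) ^ 2 ^ m = z ^ 2 ^ (m - 1) * z * (M * M) ^ 2 ^ (m - 1) := by
    rw [show (h * M) ^ 2 ^ m = ((h * M) * (h * M)) ^ 2 ^ (m - 1) by
        rw [← pow_two, ← pow_mul, ← pow_succ', show m - 1 + 1 = m by omega], hsq,
      ((hcz.symm.mul_left (hhMM.mul_left hhMM))).mul_pow, (hhz.symm.mul_right hhz.symm).mul_pow,
      show (h * h) ^ 2 ^ (m - 1) = z by
        rw [hz, ← pow_two, ← pow_mul, ← pow_succ', show m - 1 + 1 = m by omega]]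
  by_cases hm1 : m = 1
  · exfalso
    rw [hm1, Nat.sub_self, pow_zero, pow_one z, pow_one (M * M), hs.inv, one_mul] at hz'eq
    refine hs.ne_one ?_
    rw [← hwz1, hw]
    have hhM' : Commute h M := by
      refine hβ.comm_of_sign hs.inv hs.pres_self hs.card hfix hhz (hS.pres hM) hMz (fun y hy => ?_)
      rw [← MulAut.mul_apply]
      by_cases h1 : M * M = 1
      · rw [h1, MulAut.one_apply]
      · rw [hm1] at hz'
        rw [hz'eq] at hz'
        have h2 := hz'.resolve_left h1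
        have hne' : z ≠ M * M := fun e => hmove (e ▸ hMM.2.2 τ hτE)
        exact hβ.negS_le_fixS hs.inv hs.pres_self hMM.2.1 (hS.pres hMM.1) hs.ne_one hs.card h2 hcz.symm
          hne' hy
    rw [hhM'.eq, mul_inv_cancel_right, mul_inv_cancel]
  · have heven : ∀ {x : MulAut V}, x * x = 1 → x ^ 2 ^ (m - 1) = 1 := fun {x} hx => by
      rw [show m - 1 = m - 2 + 1 by omega, pow_succ', pow_mul, pow_two, hx, one_pow]
    rw [hz'eq, heven hs.inv, heven hMM.2.1, one_mul, mul_one, hs.inv]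
    exact fun e _ => Commute.one_right e

/-- The socles of an element and of its product with a member differ by a central element. -/
theorem SockSet.step {h M : MulAut V} {m : ℕ} (hm : 1 ≤ m) (hzS : h ^ 2 ^ m ∈ 𝒮)
    (hzS' : (h * M) ^ 2 ^ m ∈ 𝒮) (hfix : h ^ 2 ^ m ≠ 1 → ∀ v ∈ fixS (h ^ 2 ^ m), h v = v)
    (hfix' : (h * M) ^ 2 ^ m ≠ 1 → ∀ v ∈ fixS ((h * M) ^ 2 ^ m), (h * M) v = v)
    (hnorm : ∀ e ∈ closure 𝒮, h * e * h⁻¹ ∈ closure 𝒮) (hM : M ∈ closure 𝒮) :
    ∀ e ∈ closure 𝒮, Commute e ((h * M) ^ 2 ^ m * h ^ 2 ^ m) := by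
  have hord : ∀ {x : MulAut V}, x ^ 2 ^ m ∈ 𝒮 → x ^ 2 ^ (m + 1) = 1 := fun hx => by
    rw [pow_succ, pow_mul, pow_two, hS.sq hx]
  have hcard : ∀ {x : MulAut V}, x ∈ 𝒮 → x = 1 ∨ Nat.card (negS x) ≤ r * r := fun hx =>
    (hS _ hx).imp_right fun ⟨_, _, h⟩ => h.card
  by_cases hA : ∃ τ ∈ 𝒮, ¬ Commute τ (h ^ 2 ^ m)
  · obtain ⟨τ, hτ, hmove⟩ := hA
    exact hS.move hβ hm hzS (hfix fun e => hmove (e ▸ Commute.one_right τ)) hnorm hM (hord hzS')
      (hcard hzS') hτ hmove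
  push Not at hA
  by_cases hB : ∃ τ ∈ 𝒮, ¬ Commute τ ((h * M) ^ 2 ^ m)
  · obtain ⟨τ, hτ, hmove⟩ := hB
    have hback : h * M * M⁻¹ = h := mul_inv_cancel_right h M
    have h1 := hS.move hβ hm hzS' (hfix' fun e => hmove (e ▸ Commute.one_right τ))
      (fun e he => by
        rw [show h * M * e * (h * M)⁻¹ = h * (M * e * M⁻¹) * h⁻¹ by group]
        exact hnorm _ (mul_mem (mul_mem hM he) (inv_mem hM)))
      (inv_mem hM) (by rw [hback]; exact hord hzS) (by rw [hback]; exact hcard hzS) hτ hmove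
    rw [hback] at h1
    have h2 := h1 _ (subset_closure hzS')
    have h3 : (h * M) ^ 2 ^ m * h ^ 2 ^ m = h ^ 2 ^ m * (h * M) ^ 2 ^ m := by
      refine mul_right_cancel (b := (h * M) ^ 2 ^ m) ?_
      rw [mul_assoc]
      exact h2.eq
    rw [h3]
    exact h1
  push Not at hB
  intro e he
  induction he using closure_induction with
  | mem τ hτ => exact (hB τ hτ).mul_right (hA τ hτ)
  | one => exact Commute.one_left _
  | mul x y _ _ hx hy => exact hx.mul_left hy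
  | inv x _ hx => exact hx.inv_left

/-- A central involution does not change the socle. -/
theorem SockSet.pow_mul_omega {h M : MulAut V} {m : ℕ} (hm : 1 ≤ m) (hzS : h ^ 2 ^ m ∈ 𝒮)
    (hz1 : h ^ 2 ^ m ≠ 1) (hfix : ∀ v ∈ fixS (h ^ 2 ^ m), h v = v) (hM : M ∈ omega (closure 𝒮)) :
    (h * M) ^ 2 ^ m = h ^ 2 ^ m := by
  obtain ⟨P, -, hs⟩ := (hS _ hzS).resolve_left hz1
  have hhM : Commute h M := hβ.comm_of_sign hs.inv hs.pres_self hs.card hfix (Commute.self_pow h _)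
    (hS.pres hM.1) (hM.2.2 _ (subset_closure hzS)).symm
    (fun y _ => by rw [← MulAut.mul_apply, hM.2.1, MulAut.one_apply])
  rw [hhM.mul_pow, show M ^ 2 ^ m = 1 by
    rw [show m = m - 1 + 1 by omega, pow_succ', pow_mul, pow_two, hM.2.1, one_pow], mul_one]

end CfsgLib.PGroup.ExponentTwo
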